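import Groth.Agent.RedCent.Reductive

/-!
# Existence of the unipotent radical over an algebraically closed field
-/

set_option autoImplicit false
set_option backward.isDefEq.respectTransparency false
set_option linter.style.haveILetI false
set_option linter.unusedSectionVars false
set_option maxHeartbeats 1000000
set_option synthInstance.maxHeartbeats 200000

universe u

open CategoryTheory CategoryTheory.Limits MonoidalCategory CartesianMonoidalCategory MonObj GrpObj AlgebraicGeometry
open Groth.Agent.SubGen (rpt map_rpt exists_rpt)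

noncomputable section

namespace Groth.Agent.UniRad

open Chev Chev.BorelFixed Chev.Borel

variable {k : Type u} [Field k] [IsAlgClosed k]

/-- A group with a monomorphism into a trivial group is trivial. -/
theorem isTrivialGrp_of_mono {U W : Over (Spec (CommRingCat.of k))} [GrpObj U] (f : U ⟶ W) [Mono f]
    (hW : Red.IsTrivialGrp W) : Red.IsTrivialGrp U := by
  haveI : IsIso W.hom := hW
  haveI : IsIso (toUnit W).left := by rw [Over.toUnit_left]; infer_instance
  haveI : IsIso ((Over.forget _).map (toUnit W)) := ‹IsIso (toUnit W).left›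
  haveI : IsIso (toUnit W) := isIso_of_reflects_iso _ (Over.forget _)
  haveI : Mono (f ≫ toUnit W) := mono_comp _ _
  haveI : IsSplitEpi (f ≫ toUnit W) := ⟨⟨η[U], toUnit_unique _ _⟩⟩
  haveI : IsIso (f ≫ toUnit W) := isIso_of_mono_of_isSplitEpi _
  haveI : IsIso (f ≫ toUnit W).left := inferInstanceAs (IsIso ((Over.forget _).map (f ≫ toUnit W)))
  show IsIso U.hom
  rw [← Over.w (f ≫ toUnit W)]
  haveI : IsIso (𝟙_ (Over (Spec (CommRingCat.of k)))).hom := inferInstanceAs (IsIso (𝟙 _))
  infer_instance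

/-- Conjugation by a rational point, restricted to a normal subgroup, keeps normal subgroups normal. -/
theorem isNormalHom_comp_auto {N U : Over (Spec (CommRingCat.of k))} [GrpObj N] [GrpObj U] (iU : U ⟶ N)
    (hU : AlgGrp.IsNormalHom iU) (n m : N ⟶ N) [IsMonHom n] (hmn : m ≫ n = 𝟙 N) : AlgGrp.IsNormalHom (iU ≫ n) := by
  intro X g z
  obtain ⟨z', hz'⟩ := hU X (g ≫ m) z
  refine ⟨z', ?_⟩
  rw [← Category.assoc z', ← hz', MonObj.mul_comp, MonObj.mul_comp, GrpObj.inv_comp, Category.assoc g, hmn,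
    Category.comp_id, Category.assoc]

variable {G : Over (Spec (CommRingCat.of k))} [GrpObj G] [IsAffine G.left] [Smooth G.hom] [ConnectedSpace G.left]

/-- Connected normal subgroups without subtori of a connected normal subgroup lie, with all their conjugates,
in every Borel subgroup. -/
theorem exists_conj_le_borel {N U B : Over (Spec (CommRingCat.of k))} [GrpObj N] [GrpObj U] [GrpObj B]
    (iN : N ⟶ G) [IsMonHom iN] [IsClosedImmersion iN.left] [Smooth N.hom] [ConnectedSpace N.left]
    (hN : AlgGrp.IsNormalHom iN) (iU : U ⟶ N) [IsMonHom iU] [IsClosedImmersion iU.left] [Smooth U.hom]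
    [ConnectedSpace U.left] (hU : AlgGrp.IsNormalHom iU) (hUt : Red.HasNoSubtorus k U) (iB : B ⟶ G)
    (hB : Red.IsBorelOver k iB) (g : RP G) : ∃ f : U ⟶ B, f ≫ iB = AGF.conjBy g (iU ≫ iN) := by
  haveI : IsAffine N.left := isAffine_of_isAffineHom iN.left
  haveI : IsAffine U.left := isAffine_of_isAffineHom iU.left
  haveI := RedCent.isSolvable_of_noSubtorus hUt
  haveI : Mono iN := GrpField.SchImg.mono_of_isClosedImmersion iN
  obtain ⟨BN, _, bN, hBN, -⟩ := exists_borel_proper N
  obtain ⟨hbm, hbc, hbs, hbconn, hbsol, -⟩ := id hBN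
  haveI := hbm; haveI := hbc; haveI := hbs; haveI := hbconn
  haveI : IsAffine BN.left := isAffine_of_isAffineHom bN.left
  haveI := isSolvable_rp hbsol
  obtain ⟨h, f₁, hf₁⟩ := exists_conj_into_borel iB hB (bN ≫ iN)
  obtain ⟨n, hn⟩ := hN N (toUnit N ≫ (h⁻¹ * g)) (𝟙 N)
  obtain ⟨m, hm⟩ := hN N (toUnit N ≫ (h⁻¹ * g)⁻¹) (𝟙 N)
  have hn' : n ≫ iN = AGF.conjBy (h⁻¹ * g) iN := by rw [← hn, Category.id_comp]
  have hm' : m ≫ iN = AGF.conjBy (h⁻¹ * g)⁻¹ iN := by rw [← hm, Category.id_comp]
  haveI := isMonHom_conjBy (h⁻¹ * g) iN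
  haveI : IsMonHom n := MTSplit.isMonHom_of_comp_mono n iN _ hn'
  have hmn : m ≫ n = 𝟙 N := (cancel_mono iN).1 (by
    rw [Category.assoc, hn', comp_conjBy', hm', conjBy_conjBy, mul_inv_cancel, conjBy_one, Category.id_comp])
  obtain ⟨f₂, hf₂⟩ := RedCent.exists_le_borel_of_normal bN hBN (iU ≫ n) (isNormalHom_comp_auto iU hU n m hmn)
  refine ⟨f₂ ≫ f₁, ?_⟩
  rw [Category.assoc, hf₁, comp_conjBy', ← Category.assoc f₂, hf₂, Category.assoc, hn', comp_conjBy', conjBy_conjBy,
    mul_inv_cancel_left]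

variable (G) in
/-- **The unipotent radical exists**, and contains the connected subgroups without subtori which are normal in a
connected normal subgroup. -/
theorem exists_unipotentRadical :
    ∃ (V : Over (Spec (CommRingCat.of k))) (_ : GrpObj V) (v : V ⟶ G),
      Par.IsUnipotentRadical v ∧ IsAffine V.left ∧ ConnectedSpace V.left ∧ Red.HasNoSubtorus k V ∧
      ∀ (N : Over (Spec (CommRingCat.of k))) [GrpObj N] (iN : N ⟶ G) [IsMonHom iN], IsClosedImmersion iN.left →
        Smooth N.hom → ConnectedSpace N.left → AlgGrp.IsNormalHom iN →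
        ∀ (U : Over (Spec (CommRingCat.of k))) [GrpObj U] (iU : U ⟶ N) [IsMonHom iU], IsClosedImmersion iU.left →
          Smooth U.hom → ConnectedSpace U.left → AlgGrp.IsNormalHom iU → Red.HasNoSubtorus k U →
          ∃ f : U ⟶ V, f ≫ v = iU ≫ iN := by
  obtain ⟨B₀, _, b₀, hB₀, -⟩ := exists_borel_proper G
  obtain ⟨hbm, hbc, hbs, hbconn, hbsol, -⟩ := id hB₀
  haveI := hbm; haveI := hbc; haveI := hbs; haveI := hbconn
  haveI : IsAffine B₀.left := isAffine_of_isAffineHom b₀.left
  haveI := isSolvable_rp hbsol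
  obtain ⟨V₀, _, v₀, hv₀, hV₀a, hV₀c, hV₀t, hV₀u⟩ := exists_radical_univ B₀
  haveI := hV₀a; haveI := hV₀c; haveI := hv₀.1; haveI := hv₀.2.1; haveI := hv₀.2.2.2.1
  let c₀ : V₀ ⟶ G := v₀ ≫ b₀
  haveI : IsMonHom c₀ := by dsimp [c₀]; infer_instance
  haveI : IsClosedImmersion c₀.left := inferInstanceAs (IsClosedImmersion (v₀.left ≫ b₀.left))
  let S : Subgroup (RP G) := ⨅ g : RP G, (haveI := isMonHom_conjBy g c₀; rpHom (AGF.conjBy g c₀)).range
  have hS : ∀ p : RP G, p ∈ S ↔ ∀ g : RP G, ∃ r : RP V₀, g * (r ≫ c₀) * g⁻¹ = p := by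
    intro p
    simp only [S, Subgroup.mem_iInf, MonoidHom.mem_range]
    refine forall_congr' fun g => exists_congr fun r => ?_
    show r ≫ AGF.conjBy g c₀ = p ↔ _
    rw [comp_conjBy, toUnit_one, Category.id_comp]
  haveI : LocallyOfFiniteType G.hom := inferInstance
  obtain ⟨H, _, i, him, hic, hHs, hr⟩ := GrpField.RatClosure.exists_subgroup_closure (G := G) S
  haveI := him; haveI := hic; haveI := hHs
  haveI : IsReduced H.left := SmoothRed.isReduced_of_smooth_scheme H.hom
  have hHS : ∀ q : RP H, q ≫ i ∈ S := fun q => (hS _).2 fun g => by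
    haveI := isClosedImmersion_conjBy g c₀
    obtain ⟨r, hr'⟩ := exists_rp_lift (AGF.conjBy g c₀) (q ≫ i) (by
      have hq : rpt (q ≫ i) ∈ Set.range i.left := ⟨rpt q, map_rpt _ _⟩
      rw [hr] at hq
      refine (closure_minimal ?_ (AGF.conjBy g c₀).left.isClosedEmbedding.isClosed_range) hq
      rintro _ ⟨p, hp, rfl⟩
      obtain ⟨r, rfl⟩ := (hS p).1 hp g
      exact ⟨rpt r, by rw [map_rpt, comp_conjBy, toUnit_one, Category.id_comp]; rfl⟩)
    exact ⟨r, by rw [← hr', comp_conjBy, toUnit_one, Category.id_comp]⟩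
  obtain ⟨V, _, j, hjm, hjo, hjc, hVconn, hVcp⟩ := RedOpen.exists_open_connected H
  haveI := hjo; haveI := hjc; haveI := hVconn; haveI := hVcp
  let v : V ⟶ G := j ≫ i
  haveI : IsMonHom v := by dsimp [v]; infer_instance
  haveI : IsClosedImmersion v.left := inferInstanceAs (IsClosedImmersion (j.left ≫ i.left))
  haveI : Mono v := GrpField.SchImg.mono_of_isClosedImmersion v
  haveI : Smooth V.hom := by rw [← Over.w j]; infer_instance
  haveI : IsAffine V.left := isAffine_of_isAffineHom v.left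
  haveI : IsReduced V.left := SmoothRed.isReduced_of_smooth_scheme V.hom
  have hVS : ∀ p : RP V, p ≫ v ∈ S := fun p => by rw [← Category.assoc]; exact hHS _
  obtain ⟨t₀⟩ : Nonempty ↥(𝟙_ (Over (Spec (CommRingCat.of k)))).left := inferInstanceAs (Nonempty (PrimeSpectrum k))
  have hfac : ∀ {X : Over (Spec (CommRingCat.of k))} [IsReduced X.left] [LocallyOfFiniteType X.hom]
      [ConnectedSpace X.left] (f : X ⟶ G) (x : X.left), (∀ z : RP X, z ≫ f ∈ S) → f.left x = η[G].left t₀ →
      ∃ f' : X ⟶ V, f' ≫ v = f := by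
    intro X _ _ _ f x hf hx
    obtain ⟨g, hg⟩ := exists_lift_rp f i fun z => by
      rw [hr]
      exact subset_closure ⟨z ≫ f, hf z, rfl⟩
    obtain ⟨f', hf'⟩ := RedOpen.exists_factor_conn j g ⟨x, η[V].left t₀, by
      refine i.left.isClosedEmbedding.injective ?_
      rw [← Scheme.Hom.comp_apply g.left, ← Over.comp_left, hg, hx, ← Scheme.Hom.comp_apply, ← Scheme.Hom.comp_apply,
        ← Over.comp_left, ← Over.comp_left, ← Category.assoc, IsMonHom.one_hom j, IsMonHom.one_hom i]⟩
    exact ⟨f', by rw [← Category.assoc, hf', hg]⟩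
  have hVt : Red.HasNoSubtorus k V := by
    obtain ⟨l, hl⟩ := exists_lift_rp v c₀ fun z => by
      obtain ⟨r, hr'⟩ := (hS _).1 (hVS z) 1
      refine ⟨rpt r, ?_⟩
      rw [map_rpt, ← hr', _root_.one_mul, inv_one, _root_.mul_one]
    haveI : Mono c₀ := GrpField.SchImg.mono_of_isClosedImmersion c₀
    haveI : IsMonHom l := MTSplit.isMonHom_of_comp_mono l c₀ v hl
    haveI : Mono (l ≫ c₀) := by rw [hl]; infer_instance
    haveI : Mono l := mono_of_mono l c₀
    intro T _ t _ _ hT
    exact hV₀t T (t ≫ l) hT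
  have huniv : ∀ (N : Over (Spec (CommRingCat.of k))) [GrpObj N] (iN : N ⟶ G) [IsMonHom iN], IsClosedImmersion iN.left →
      Smooth N.hom → ConnectedSpace N.left → AlgGrp.IsNormalHom iN →
      ∀ (U : Over (Spec (CommRingCat.of k))) [GrpObj U] (iU : U ⟶ N) [IsMonHom iU], IsClosedImmersion iU.left →
        Smooth U.hom → ConnectedSpace U.left → AlgGrp.IsNormalHom iU → Red.HasNoSubtorus k U →
        ∃ f : U ⟶ V, f ≫ v = iU ≫ iN := by
    intro N _ iN _ hNc hNs hNconn hNn U _ iU _ hUc hUs hUconn hUn hUt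
    haveI := hNc; haveI := hNs; haveI := hNconn; haveI := hUc; haveI := hUs; haveI := hUconn
    haveI : IsReduced U.left := SmoothRed.isReduced_of_smooth_scheme U.hom
    haveI : IsAffine N.left := isAffine_of_isAffineHom iN.left
    haveI : IsAffine U.left := isAffine_of_isAffineHom iU.left
    haveI : IsClosedImmersion (iU ≫ iN).left := inferInstanceAs (IsClosedImmersion (iU.left ≫ iN.left))
    refine hfac (iU ≫ iN) (η[U].left t₀) (fun z => (hS _).2 fun g => ?_)
      (by rw [← Scheme.Hom.comp_apply, ← Over.comp_left, IsMonHom.one_hom (iU ≫ iN)])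
    obtain ⟨f, hf⟩ := exists_conj_le_borel iN hNn iU hUn hUt b₀ hB₀ g⁻¹
    haveI := isMonHom_conjBy g⁻¹ (iU ≫ iN)
    haveI := isClosedImmersion_conjBy g⁻¹ (iU ≫ iN)
    haveI : Mono b₀ := GrpField.SchImg.mono_of_isClosedImmersion b₀
    haveI : IsMonHom f := MTSplit.isMonHom_of_comp_mono f b₀ _ hf
    haveI : IsClosedImmersion f.left := by
      haveI : IsClosedImmersion (f.left ≫ b₀.left) := by rw [← Over.comp_left, hf]; infer_instance
      exact IsClosedImmersion.of_comp f.left b₀.left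
    obtain ⟨f₀, hf₀⟩ := hV₀u U f inferInstance inferInstance inferInstance hUt
    refine ⟨z ≫ f₀, ?_⟩
    have h1 : (z ≫ f₀) ≫ c₀ = g⁻¹ * (z ≫ iU ≫ iN) * g := by
      simp only [c₀, Category.assoc]
      rw [reassoc_of% hf₀, hf, comp_conjBy, toUnit_one, Category.id_comp, _root_.inv_inv]
    rw [h1]
    group
  refine ⟨V, inferInstance, v, ⟨inferInstance, inferInstance, ?_, inferInstance, ?_, fun s => ?_, ?_⟩, inferInstance,
    inferInstance, hVt, huniv⟩
  · obtain ⟨hc, hs, hred⟩ := prod_conn G V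
    haveI := hc; haveI := hs; haveI := hred
    let F : G ⊗ V ⟶ G := fst G V * (snd G V ≫ v) * (fst G V)⁻¹
    obtain ⟨n, hn⟩ := hfac F ((lift η[G] η[V] : 𝟙_ _ ⟶ G ⊗ V).left t₀)
      (fun z => (hS _).2 fun g => by
        obtain ⟨r, hr'⟩ := (hS _).1 (hVS (z ≫ snd G V)) ((z ≫ fst G V)⁻¹ * g)
        refine ⟨r, ?_⟩
        simp only [F, MonObj.comp_mul, GrpObj.comp_inv, ← Category.assoc]
        rw [← hr']
        group)
      (by
        rw [← Scheme.Hom.comp_apply, ← Over.comp_left]
        congr 1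
        congr 1
        simp only [F, MonObj.comp_mul, GrpObj.comp_inv, CartesianMonoidalCategory.lift_fst,
          CartesianMonoidalCategory.lift_snd_assoc, IsMonHom.one_hom v]
        rw [MonObj.one_eq_one, _root_.mul_one, mul_inv_cancel])
    intro X g z
    refine ⟨lift g z ≫ n, ?_⟩
    rw [Category.assoc, hn, MonObj.comp_mul, MonObj.comp_mul, GrpObj.comp_inv, CartesianMonoidalCategory.lift_snd_assoc,
      CartesianMonoidalCategory.lift_fst]
  · haveI : IsAffineHom V.hom := isAffineHom_of_isAffine V.hom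
    infer_instance
  · exact (geomFibre_unipotent_iff V s).2 ⟨inferInstance, hVt⟩
  · intro U' _ u' _ hu'c hu'n hu's _ hu'f
    obtain ⟨hconn, hnos⟩ := (geomFibre_unipotent_iff U' (IsLocalRing.closedPoint k)).1 (hu'f _)
    obtain ⟨f, hf⟩ := huniv G (𝟙 G) inferInstance inferInstance inferInstance
      (fun X g n => ⟨g * n * g⁻¹, by simp only [Category.comp_id]⟩) U' u' hu'c hu's hconn hu'n hnos
    exact ⟨f, by rw [hf, Category.comp_id]⟩

/-- A connected normal subgroup of a reductive group is reductive. -/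
theorem isReductiveOver_of_normal {N : Over (Spec (CommRingCat.of k))} [GrpObj N] (hG : Red.IsReductiveOver k G)
    (iN : N ⟶ G) [IsMonHom iN] [IsClosedImmersion iN.left] [Smooth N.hom] [ConnectedSpace N.left]
    (hN : AlgGrp.IsNormalHom iN) : Red.IsReductiveOver k N := by
  refine ⟨isAffine_of_isAffineHom iN.left, inferInstance, inferInstance, fun U _ i _ hic hUs hUc hUn hUt => ?_⟩
  obtain ⟨V, _, v, hv, -, hVc, hVt, huniv⟩ := exists_unipotentRadical G
  haveI := hv.1
  obtain ⟨f, hf⟩ := huniv N iN inferInstance inferInstance inferInstance hN U i hic hUs hUc hUn hUt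
  have hV : Red.IsTrivialGrp V := hG.2.2.2 V v hv.2.1 hv.2.2.2.1 hVc hv.2.2.1 hVt
  haveI := hic
  haveI : IsClosedImmersion (i ≫ iN).left := inferInstanceAs (IsClosedImmersion (i.left ≫ iN.left))
  haveI : Mono (f ≫ v) := by rw [hf]; exact GrpField.SchImg.mono_of_isClosedImmersion _
  haveI : Mono f := mono_of_mono f v
  exact isTrivialGrp_of_mono f hV

end Groth.Agent.UniRad
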