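import Groth.Agent.RedOpen.Component
import Groth.Agent.Chev.GeomPtIso
import Groth.Agent.GrpField.RatClosure
import Groth.Agent.RedCartan.Cartan

/-!
# Unipotent radicals of solvable groups over an algebraically closed field
-/

set_option autoImplicit false
set_option backward.isDefEq.respectTransparency false
set_option linter.style.haveILetI false
set_option linter.unusedSectionVars false
set_option maxHeartbeats 1000000
set_option synthInstance.maxHeartbeats 200000

universe u

open CategoryTheory CategoryTheory.Limits MonoidalCategory CartesianMonoidalCategory MonObj GrpObj AlgebraicGeometry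
open WithConv
open Groth.Agent.SubGen (rpt map_rpt exists_rpt)
open Groth.Agent.MTBridge (specGrp)

noncomputable section

namespace Groth.Agent.UniRad

open Chev Chev.BorelFixed Chev.Borel RedCartan

variable {k : Type u} [Field k] [IsAlgClosed k]

/-- Triviality descends along an isomorphism of bases. -/
theorem isTrivial_of_pullback {S S' : Scheme.{u}} (w : S' ⟶ S) [IsIso w] (X : Over S)
    (h : IsIso ((Over.pullback w).obj X).hom) : IsIso X.hom := by
  haveI : IsIso (pullback.snd X.hom w) := h
  haveI : IsIso (pullback.fst X.hom w ≫ X.hom) := by rw [pullback.condition]; infer_instance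
  exact IsIso.of_isIso_comp_left (pullback.fst X.hom w) X.hom

/-- The subtorus condition seen at the geometric point. -/
theorem geomFibre_unipotent_iff (U : Over (Spec (CommRingCat.of k))) [GrpObj U] (s : Spec (CommRingCat.of k)) :
    ConnectedSpace (Red.geomFibre s U).left ∧
        Red.HasNoSubtorus (AlgebraicClosure ((Spec (CommRingCat.of k)).residueField s)) (Red.geomFibre s U) ↔
      ConnectedSpace U.left ∧ Red.HasNoSubtorus k U := by
  haveI := isIso_geomPt k s
  let τ := Red.geomPt s
  let w := inv τ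
  have hwτ : w ≫ τ = 𝟙 _ := IsIso.inv_hom_id τ
  haveI : PreservesLimitsOfShape WalkingCospan (Over.pullback w) :=
    (Adjunction.rightAdjoint_preservesLimits (Over.mapPullbackAdj w)).preservesLimitsOfShape
  haveI : PreservesLimitsOfShape WalkingCospan (Over.pullback τ) :=
    (Adjunction.rightAdjoint_preservesLimits (Over.mapPullbackAdj τ)).preservesLimitsOfShape
  let h := Scheme.homeoOfIso (asIso (pullback.fst U.hom τ))
  refine and_congr ⟨fun hc => by haveI : ConnectedSpace ↥(pullback U.hom τ) := hc; exact h.surjective.connectedSpace h.continuous,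
    fun hc => by haveI := hc; exact h.symm.surjective.connectedSpace h.symm.continuous⟩ ⟨fun hF T _ j _ _ hT => ?_, fun hU T _ j _ _ hT => ?_⟩
  · exact isTrivial_of_pullback τ T (hF _ ((Over.pullback τ).map j) (Groth.Agent.Chev.isTorus_bc hT _))
  · haveI := isMonHom_backHom τ w hwτ U
    haveI := isIso_backHom τ w hwτ U
    haveI : IsMonHom (asIso (backHom τ w hwτ U)).hom := isMonHom_backHom τ w hwτ U
    haveI : IsMonHom (inv (backHom τ w hwτ U)) := inferInstanceAs (IsMonHom (asIso (backHom τ w hwτ U)).inv)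
    exact isTrivial_of_pullback w T
      (hU _ ((Over.pullback w).map j ≫ inv (backHom τ w hwτ U)) (Groth.Agent.Chev.isTorus_bc hT w))

/-- Connected normal subgroups without subtori lie in the unipotent radical. -/
theorem exists_le_radical {U P K : Over (Spec (CommRingCat.of k))} [GrpObj U] [GrpObj P] [GrpObj K] {u : U ⟶ P}
    (hu : Par.IsUnipotentRadical u) (i : K ⟶ P) [IsMonHom i] [IsAffine K.left] [Smooth K.hom] [ConnectedSpace K.left]
    [IsClosedImmersion i.left] (hn : AlgGrp.IsNormalHom i) (hK : Red.HasNoSubtorus k K) :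
    ∃ f : K ⟶ U, f ≫ u = i := by
  haveI : IsAffineHom K.hom := isAffineHom_of_isAffine K.hom
  exact hu.2.2.2.2.2.2 K i inferInstance hn inferInstance inferInstance
    fun s => (geomFibre_unipotent_iff K s).2 ⟨inferInstance, hK⟩

theorem prod_conn (X Y : Over (Spec (CommRingCat.of k))) [GrpObj X] [GrpObj Y] [Smooth X.hom] [Smooth Y.hom]
    [ConnectedSpace X.left] [ConnectedSpace Y.left] :
    ConnectedSpace (X ⊗ Y).left ∧ Smooth (X ⊗ Y).hom ∧ IsReduced (X ⊗ Y).left := by
  haveI hs : Smooth (X ⊗ Y).hom := by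
    show Smooth (pullback.fst X.hom Y.hom ≫ X.hom)
    infer_instance
  refine ⟨?_, hs, SmoothRed.isReduced_of_smooth_scheme (X ⊗ Y).hom⟩
  haveI := GrpField.geometricallyIrreducible_of_connected X
  haveI := GrpField.geometricallyIrreducible_of_connected Y
  haveI : UniversallyOpen X.hom := inferInstance
  haveI : UniversallyOpen Y.hom := inferInstance
  haveI : IrreducibleSpace Y.left := GeometricallyIrreducible.irreducibleSpace Y.hom Y.hom.isOpenMap
  haveI : IrreducibleSpace (X ⊗ Y).left := inferInstanceAs (IrreducibleSpace ↥(pullback X.hom Y.hom))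
  infer_instance

/-- A homomorphism from a connected group without subtori to a torus is trivial. -/
theorem hom_torus_eq_one {U T : Over (Spec (CommRingCat.of k))} [GrpObj U] [GrpObj T] [IsAffine U.left] [Smooth U.hom]
    [ConnectedSpace U.left] (hU : Red.HasNoSubtorus k U) (hT : Red.IsTorus T) (f : U ⟶ T) [IsMonHom f] : f = 1 := by
  classical
  obtain ⟨C, _, _, eT, heT, hCft, hCdom, M₀, _, ⟨E⟩⟩ := exists_hopf_torus hT
  haveI := heT
  haveI := isAffine_of_isTorus hT
  haveI := locallyOfFiniteType_of_isTorus hT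
  haveI : IsReduced U.left := SmoothRed.isReduced_of_smooth_scheme U.hom
  obtain ⟨A', hA', e', he'⟩ := FinHopf.exists_hopf (R := CommRingCat.of k) U
  haveI := he'
  refine hom_ext_rp fun p => ?_
  rw [MonObj.comp_one]
  refine (ProjRep.ptsEquiv eT).injective ?_
  rw [map_one]
  have hchi : ∀ m : M₀, (ProjRep.ptsEquiv eT (p ≫ f)).ofConv (E.symm (MonoidAlgebra.single m 1)) = 1 := by
    intro m
    let χ := E.symm (MonoidAlgebra.single m 1)
    have hg : IsGroupLikeElem k (MonoidAlgebra.single m (1 : k)) := ⟨by simp, by simp⟩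
    have hg' := hg.map E.symm
    let σ : RP T →* Module.End k k :=
      { toFun := fun t => (ProjRep.ptsEquiv eT t).ofConv χ • (1 : Module.End k k)
        map_one' := by
          rw [map_one, show (1 : Takeuchi.Pt k C k).ofConv χ = 1 from
            (Takeuchi.one_apply χ).trans (by rw [hg'.counit_eq_one, map_one]), one_smul]
        map_mul' := fun a b => by
          rw [map_mul, show ((ProjRep.ptsEquiv eT a) * (ProjRep.ptsEquiv eT b)).ofConv χ =
            (ProjRep.ptsEquiv eT a).ofConv χ * (ProjRep.ptsEquiv eT b).ofConv χ from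
              (Takeuchi.mul_apply _ _ χ).trans (by rw [hg'.comul_eq_tmul_self, Algebra.TensorProduct.lift_tmul])]
          rw [smul_mul_smul_comm, _root_.mul_one] }
    have hσ : IsRegular eT σ := fun l w => ⟨l w • χ, fun t => by
      show (ProjRep.ptsEquiv eT t).ofConv (l w • χ) = _
      simp [σ, map_smul, mul_comm]
      rw [mul_comm w, ← smul_eq_mul (a := (ProjRep.ptsEquiv eT t).ofConv χ) (b := w), map_smul, smul_eq_mul, mul_comm]⟩
    obtain ⟨N, hN⟩ := RedOpen.isNilpotent_of_noSubtorus hU e' (hσ.comp e' f) p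
    have h1 : σ.comp (BorelFixed.rpHom f) p - 1 = ((ProjRep.ptsEquiv eT (p ≫ f)).ofConv χ - 1) • (1 : Module.End k k) := by
      refine LinearMap.ext fun z => ?_
      simp [σ, χ, BorelFixed.rpHom, sub_mul]
    rw [h1, smul_pow, one_pow] at hN
    have h2 := LinearMap.congr_fun hN 1
    simp only [LinearMap.smul_apply, Module.End.one_apply, LinearMap.zero_apply, smul_eq_mul, _root_.mul_one] at h2
    exact sub_eq_zero.1 (pow_eq_zero_iff'.1 h2).1
  refine WithConv.ext (AlgHom.ext fun x => ?_)
  obtain ⟨y, rfl⟩ : ∃ y, E.symm y = x := E.symm.surjective x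
  induction y using MonoidAlgebra.induction_on with
  | of m =>
    rw [show (1 : Takeuchi.Pt k C k).ofConv (E.symm (MonoidAlgebra.of k M₀ m)) = 1 from
      (Takeuchi.one_apply _).trans (by
        rw [MonoidAlgebra.of_apply, ((show IsGroupLikeElem k (MonoidAlgebra.single m (1 : k)) from
          ⟨by simp, by simp⟩).map E.symm).counit_eq_one, map_one])]
    exact hchi m
  | add a b ha hb => simp only [map_add, ha, hb]
  | smul r a ha => simp only [map_smul, ha]

/-- A connected solvable group has a unipotent radical, containing every connected subgroup without subtori and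
every connected family of points killed by a retraction onto a maximal torus. -/
theorem exists_radical_core (B : Over (Spec (CommRingCat.of k))) [GrpObj B] [IsAffine B.left] [Smooth B.hom]
    [ConnectedSpace B.left] [Group.IsSolvable (RP B)] :
    ∃ (V : Over (Spec (CommRingCat.of k))) (_ : GrpObj V) (v : V ⟶ B),
      Par.IsUnipotentRadical v ∧ IsAffine V.left ∧ ConnectedSpace V.left ∧ Red.HasNoSubtorus k V ∧
      (∀ (U' : Over (Spec (CommRingCat.of k))) [GrpObj U'] (u' : U' ⟶ B) [IsMonHom u'], IsClosedImmersion u'.left →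
        Smooth U'.hom → ConnectedSpace U'.left → Red.HasNoSubtorus k U' → ∃ f : U' ⟶ V, f ≫ v = u') ∧
      ∃ (T₀ : Over (Spec (CommRingCat.of k))) (_ : GrpObj T₀) (iT₀ : T₀ ⟶ B) (π₀ : B ⟶ T₀),
        IsMonHom iT₀ ∧ IsMonHom π₀ ∧ iT₀ ≫ π₀ = 𝟙 T₀ ∧ Red.IsTorus T₀ ∧
        ∀ (X : Over (Spec (CommRingCat.of k))) [IsReduced X.left] [LocallyOfFiniteType X.hom] [ConnectedSpace X.left]
          (f : X ⟶ B) (z : RP X), f ≫ π₀ = 1 → z ≫ f = 1 → ∃ f' : X ⟶ V, f' ≫ v = f := by
  obtain ⟨T₀, _, iT₀, π₀, hiT₀, hπ₀, -, hsec, hT₀, htori, -⟩ := exists_section_torus B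
  haveI := hiT₀; haveI := hπ₀
  haveI : IsReduced B.left := SmoothRed.isReduced_of_smooth_scheme B.hom
  obtain ⟨N, hNg, iN, hiN, hNm, hNpb, hN⟩ := AgIsog.exists_kernel π₀
  haveI := hiN; haveI := hNm
  haveI := isAffine_of_isTorus hT₀
  haveI : IsClosedImmersion iN.left := by
    haveI : IsClosedImmersion (η[T₀] : 𝟙_ _ ⟶ T₀).left := by
      haveI : IsSeparated T₀.hom := inferInstance
      haveI : IsClosedImmersion ((η[T₀] : 𝟙_ _ ⟶ T₀).left ≫ T₀.hom) := by
        rw [Over.w η[T₀]]
        exact inferInstanceAs (IsClosedImmersion (𝟙 (Spec (CommRingCat.of k))))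
      exact IsClosedImmersion.of_comp (η[T₀] : 𝟙_ _ ⟶ T₀).left T₀.hom
    exact MorphismProperty.of_isPullback (P := @IsClosedImmersion) hNpb.flip inferInstance
  haveI : LocallyOfFiniteType N.hom := by rw [← Over.w iN]; infer_instance
  obtain ⟨H, _, i, him, hic, hHs, hr⟩ :=
    GrpField.RatClosure.exists_subgroup_closure (G := B) (BorelFixed.rpHom iN).range
  haveI := him; haveI := hic; haveI := hHs
  haveI : IsReduced H.left := SmoothRed.isReduced_of_smooth_scheme H.hom
  obtain ⟨V, _, j, hjm, hjo, hjc, hVconn, hVcp⟩ := RedOpen.exists_open_connected H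
  haveI := hjo; haveI := hjc; haveI := hVconn; haveI := hVcp
  let v : V ⟶ B := j ≫ i
  haveI : IsClosedImmersion v.left := inferInstanceAs (IsClosedImmersion (j.left ≫ i.left))
  haveI : Mono v := GrpField.SchImg.mono_of_isClosedImmersion v
  haveI : Smooth V.hom := by rw [← Over.w j]; infer_instance
  haveI : IsAffine V.left := isAffine_of_isAffineHom v.left
  have hiN' : Set.range i.left ⊆ Set.range iN.left := by
    rw [hr]
    refine closure_minimal ?_ iN.left.isClosedEmbedding.isClosed_range
    rintro _ ⟨_, ⟨q, rfl⟩, rfl⟩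
    exact ⟨rpt q, rfl⟩
  obtain ⟨l, hl⟩ := exists_lift_range i iN hiN'
  have hvπ : v ≫ π₀ = 1 := (hN V v).1 ⟨j ≫ l, by rw [Category.assoc, hl]⟩
  obtain ⟨t₀⟩ : Nonempty ↥(𝟙_ (Over (Spec (CommRingCat.of k)))).left := inferInstanceAs (Nonempty (PrimeSpectrum k))
  have hfac : ∀ {X : Over (Spec (CommRingCat.of k))} [IsReduced X.left] [LocallyOfFiniteType X.hom]
      [ConnectedSpace X.left] (f : X ⟶ B) (x : X.left), f ≫ π₀ = 1 → f.left x = η[B].left t₀ →
      ∃ f' : X ⟶ V, f' ≫ v = f := by
    intro X _ _ _ f x hf hx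
    obtain ⟨fN, hfN⟩ := (hN X f).2 hf
    obtain ⟨g, hg⟩ := exists_lift_rp f i fun z => by
      rw [hr]
      refine subset_closure ⟨z ≫ f, ⟨z ≫ fN, ?_⟩, rfl⟩
      show (z ≫ fN) ≫ iN = z ≫ f
      rw [Category.assoc, hfN]
    obtain ⟨f', hf'⟩ := RedOpen.exists_factor_conn j g ⟨x, η[V].left t₀, by
      refine i.left.isClosedEmbedding.injective ?_
      rw [← Scheme.Hom.comp_apply g.left, ← Over.comp_left, hg, hx, ← Scheme.Hom.comp_apply, ← Scheme.Hom.comp_apply,
        ← Over.comp_left, ← Over.comp_left, ← Category.assoc, IsMonHom.one_hom j, IsMonHom.one_hom i]⟩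
    exact ⟨f', by rw [← Category.assoc, hf', hg]⟩
  have hVt : Red.HasNoSubtorus k V := by
    intro S _ t _ _ hS
    let jB : S ⟶ B := t ≫ v
    haveI : IsMonHom jB := by dsimp [jB]; infer_instance
    haveI : Mono jB := mono_comp t v
    have hjπ : jB ≫ π₀ = 1 := by rw [Category.assoc, hvπ, MonObj.comp_one]
    obtain ⟨g, f, -, hf⟩ := htori S jB hS
    have hf1 : f = 1 := by
      have h1 := congrArg (fun m => m ≫ π₀) hf
      simp only [MonObj.mul_comp, GrpObj.inv_comp, Category.assoc, hsec, Category.comp_id] at h1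
      rw [h1, hjπ, _root_.mul_one, mul_inv_cancel]
    have hj1 : jB = 1 := by
      have h1 : (toUnit S ≫ g) * jB * (toUnit S ≫ g)⁻¹ = 1 := by
        rw [hf1, MonObj.one_comp] at hf
        exact hf.symm
      have h2 := mul_inv_eq_one.1 h1
      rwa [mul_eq_left] at h2
    have hid : 𝟙 S = 1 := (cancel_mono jB).1 (by rw [Category.id_comp, MonObj.one_comp, hj1])
    rw [Hom.one_def] at hid
    refine ⟨η[S].left, ?_, ?_⟩
    · have h := congrArg CommaMorphism.left hid
      simp only [Over.comp_left, Over.toUnit_left] at h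
      exact h.symm
    · exact Over.w η[S]
  have huniv : ∀ (U' : Over (Spec (CommRingCat.of k))) [GrpObj U'] (u' : U' ⟶ B) [IsMonHom u'],
      IsClosedImmersion u'.left → Smooth U'.hom → ConnectedSpace U'.left → Red.HasNoSubtorus k U' →
      ∃ f : U' ⟶ V, f ≫ v = u' := by
    intro U' _ u' _ hu'c hu's hconn hnos
    haveI := hu'c; haveI := hu's; haveI := hconn
    haveI : IsAffine U'.left := isAffine_of_isAffineHom u'.left
    haveI : IsReduced U'.left := SmoothRed.isReduced_of_smooth_scheme U'.hom
    refine hfac u' (η[U'].left t₀) (hom_torus_eq_one hnos hT₀ (u' ≫ π₀)) ?_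
    rw [← Scheme.Hom.comp_apply, ← Over.comp_left, IsMonHom.one_hom u']
  refine ⟨V, inferInstance, v, ⟨inferInstance, inferInstance, ?_, inferInstance, ?_, fun s => ?_, ?_⟩, inferInstance,
    inferInstance, hVt, huniv, T₀, inferInstance, iT₀, π₀, hiT₀, hπ₀, hsec, hT₀, fun X _ _ _ f z hf hz =>
      hfac f (z.left t₀) hf (by rw [← Scheme.Hom.comp_apply, ← Over.comp_left, hz, ← MonObj.one_eq_one])⟩
  · obtain ⟨hc, hs, hred⟩ := prod_conn B V
    haveI := hc; haveI := hs; haveI := hred
    let F : B ⊗ V ⟶ B := fst B V * (snd B V ≫ v) * (fst B V)⁻¹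
    obtain ⟨n, hn⟩ := hfac F ((lift η[B] η[V] : 𝟙_ _ ⟶ B ⊗ V).left t₀)
      (by simp only [F, MonObj.mul_comp, GrpObj.inv_comp, Category.assoc, hvπ, MonObj.comp_one, _root_.mul_one,
        mul_inv_cancel])
      (by
        rw [← Scheme.Hom.comp_apply, ← Over.comp_left]
        congr 1
        congr 1
        simp only [F, MonObj.comp_mul, GrpObj.comp_inv, CartesianMonoidalCategory.lift_fst,
          CartesianMonoidalCategory.lift_snd_assoc, IsMonHom.one_hom v]
        rw [MonObj.one_eq_one, _root_.mul_one, mul_inv_cancel])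
    intro X g z
    refine ⟨lift g z ≫ n, ?_⟩
    rw [Category.assoc, hn, MonObj.comp_mul, MonObj.comp_mul, GrpObj.comp_inv, CartesianMonoidalCategory.lift_snd_assoc,
      CartesianMonoidalCategory.lift_fst]
  · haveI : IsAffineHom V.hom := isAffineHom_of_isAffine V.hom
    infer_instance
  · exact (geomFibre_unipotent_iff V s).2 ⟨inferInstance, hVt⟩
  · intro U' _ u' _ hu'c hu'n hu's _ hu'f
    obtain ⟨hconn, hnos⟩ := (geomFibre_unipotent_iff U' (IsLocalRing.closedPoint k)).1 (hu'f _)
    exact huniv U' u' hu'c hu's hconn hnos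

/-- A connected solvable group has a unipotent radical, containing every connected subgroup without subtori. -/
theorem exists_radical_univ (B : Over (Spec (CommRingCat.of k))) [GrpObj B] [IsAffine B.left] [Smooth B.hom]
    [ConnectedSpace B.left] [Group.IsSolvable (RP B)] :
    ∃ (V : Over (Spec (CommRingCat.of k))) (_ : GrpObj V) (v : V ⟶ B),
      Par.IsUnipotentRadical v ∧ IsAffine V.left ∧ ConnectedSpace V.left ∧ Red.HasNoSubtorus k V ∧
      ∀ (U' : Over (Spec (CommRingCat.of k))) [GrpObj U'] (u' : U' ⟶ B) [IsMonHom u'], IsClosedImmersion u'.left →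
        Smooth U'.hom → ConnectedSpace U'.left → Red.HasNoSubtorus k U' → ∃ f : U' ⟶ V, f ≫ v = u' := by
  obtain ⟨V, hV, v, h1, h2, h3, h4, h5, -⟩ := exists_radical_core B
  exact ⟨V, hV, v, h1, h2, h3, h4, h5⟩

/-- A connected solvable group has a unipotent radical. -/
theorem exists_radical (B : Over (Spec (CommRingCat.of k))) [GrpObj B] [IsAffine B.left] [Smooth B.hom]
    [ConnectedSpace B.left] [Group.IsSolvable (RP B)] :
    ∃ (V : Over (Spec (CommRingCat.of k))) (_ : GrpObj V) (v : V ⟶ B),
      Par.IsUnipotentRadical v ∧ IsAffine V.left ∧ ConnectedSpace V.left ∧ Red.HasNoSubtorus k V := by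
  obtain ⟨V, hV, v, h1, h2, h3, h4, -⟩ := exists_radical_univ B
  exact ⟨V, hV, v, h1, h2, h3, h4⟩

end Groth.Agent.UniRad
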