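import Groth.Agent.UniRad.Exists

/-!
# Groups without connected unipotent subgroups are tori
-/

set_option autoImplicit false
set_option backward.isDefEq.respectTransparency false
set_option linter.style.haveILetI false
set_option linter.unusedSectionVars false
set_option maxHeartbeats 1000000
set_option synthInstance.maxHeartbeats 200000

universe u

open CategoryTheory CategoryTheory.Limits MonoidalCategory CartesianMonoidalCategory MonObj GrpObj AlgebraicGeometry
open WithConv
open Groth.Agent.SubGen (rpt map_rpt exists_rpt)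
open Groth.Agent.MTBridge (specGrp)

noncomputable section

namespace Groth.Agent.UniRad

open Chev Chev.BorelFixed Chev.Borel

variable {k : Type u} [Field k] [IsAlgClosed k]

/-- A connected solvable group all of whose normal connected subgroups without subtori are trivial is a torus. -/
theorem isTorus_of_solvable {B : Over (Spec (CommRingCat.of k))} [GrpObj B] [IsAffine B.left] [Smooth B.hom]
    [ConnectedSpace B.left] [Group.IsSolvable (RP B)]
    (h : ∀ (U : Over (Spec (CommRingCat.of k))) [GrpObj U] (i : U ⟶ B) [IsMonHom i], IsClosedImmersion i.left →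
      Smooth U.hom → ConnectedSpace U.left → AlgGrp.IsNormalHom i → Red.HasNoSubtorus k U → Red.IsTrivialGrp U) :
    Red.IsTorus B := by
  obtain ⟨V, _, v, hv, hVa, hVc, hVt, -, T₀, _, iT₀, π₀, hiT₀, hπ₀, hsec, hT₀, hfac⟩ := exists_radical_core B
  obtain ⟨hvm, hvc, hvn, hvs, -, -, -⟩ := id hv
  haveI := hvm; haveI := hvc; haveI := hvs; haveI := hVa; haveI := hVc
  haveI := hiT₀; haveI := hπ₀
  haveI : IsIso V.hom := h V v hvc hvs hVc hvn hVt
  haveI : IsReduced B.left := SmoothRed.isReduced_of_smooth_scheme B.hom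
  let ρ : B ⟶ B := 𝟙 B * (π₀ ≫ iT₀)⁻¹
  have hρ : ρ ≫ π₀ = 1 := by
    simp only [ρ, MonObj.mul_comp, GrpObj.inv_comp, Category.id_comp, Category.assoc, hsec, Category.comp_id,
      mul_inv_cancel]
  obtain ⟨f, hf⟩ := hfac B ρ 1 hρ (by
    simp only [ρ, MonObj.comp_mul, GrpObj.comp_inv, Category.comp_id, MonObj.one_comp, inv_one, _root_.mul_one])
  have hf1 : f = toUnit B ≫ η[V] :=
    Over.OverMorphism.ext ((cancel_mono V.hom).1 (by rw [Over.w f, Over.w (toUnit B ≫ η[V])]))
  have hρ1 : ρ = 1 := by rw [← hf, hf1, Category.assoc, IsMonHom.one_hom v, Hom.one_def]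
  have hid : π₀ ≫ iT₀ = 𝟙 B := (mul_inv_eq_one.1 hρ1).symm
  haveI : IsMonHom (Iso.mk iT₀ π₀ hsec hid).hom := hiT₀
  exact isTorus_of_iso (Iso.mk iT₀ π₀ hsec hid) hT₀

/-- A connected group whose Borel subgroup is commutative is equal to it. -/
theorem isIso_of_borel_comm {G B : Over (Spec (CommRingCat.of k))} [GrpObj G] [GrpObj B] [IsAffine G.left]
    [Smooth G.hom] [ConnectedSpace G.left] (iB : B ⟶ G) (hB : Red.IsBorelOver k iB)
    (hcomm : ∀ p q : RP B, p * q = q * p) (g : RP G) (p : RP B) : g * (p ≫ iB) = (p ≫ iB) * g := by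
  haveI := hB.1; haveI := hB.2.2.1
  obtain ⟨B₀, _, b₀, hB₀, X, a, o, hX, hXp⟩ := exists_borel_proper G
  haveI := hB₀.1; haveI := hB₀.2.2.1; haveI := hXp
  obtain ⟨h, ε, hε⟩ := borel_conj iB b₀ hB hB₀
  haveI : IsMonHom ε.hom := by
    haveI := hB₀.2.1
    haveI : Mono b₀ := GrpField.SchImg.mono_of_isClosedImmersion b₀
    haveI := isMonHom_conjBy h iB
    exact MTSplit.isMonHom_of_comp_mono ε.hom b₀ _ hε
  have hcomm₀ : ∀ q q' : RP B₀, q * q' = q' * q := fun q q' => by
    have := congrArg (fun z => z ≫ ε.hom) (hcomm (q ≫ ε.inv) (q' ≫ ε.inv))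
    simpa only [MonObj.mul_comp, Category.assoc, ε.inv_hom_id, Category.comp_id] using this
  obtain ⟨A, hA, e, he⟩ := FinHopf.exists_hopf (R := CommRingCat.of k) G
  haveI := he
  haveI : IsIso e.hom.left := inferInstanceAs (IsIso ((Over.forget _).map e.hom))
  -- conjugates of a point of the Borel subgroup do not depend on the conjugating point
  have key : ∀ (q : RP B₀) (g : RP G), g * (q ≫ b₀) * g⁻¹ = q ≫ b₀ := by
    intro q g
    let c : G ⟶ G := 𝟙 G * (toUnit G ≫ q ≫ b₀) * (𝟙 G)⁻¹
    have hc : ∀ z : RP G, z ≫ c = z * (q ≫ b₀) * z⁻¹ := fun z => by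
      simp only [c, MonObj.comp_mul, GrpObj.comp_inv, Category.comp_id, rp_const]
    let C : (specGrp k A).X ⟶ (specGrp k A).X := e.hom ≫ c ≫ e.inv
    let φ : CommRingCat.of A ⟶ CommRingCat.of A := Spec.preimage C.left
    have hC : Spec.map φ = C.left := Spec.map_preimage _
    have hφk : ∀ r : k, φ (algebraMap k A r) = algebraMap k A r := by
      have h1 : Spec.map φ ≫ Spec.map (CommRingCat.ofHom (algebraMap k A)) = Spec.map (CommRingCat.ofHom (algebraMap k A)) := by
        rw [hC]; exact Over.w C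
      rw [← Spec.map_comp] at h1
      intro r
      exact congrArg (fun m => m r) (Spec.map_injective h1)
    let h' : A →ₐ[k] A := { φ.hom with commutes' := hφk }
    have hf : e.hom.left ≫ c.left = Spec.map (CommRingCat.ofHom h'.toRingHom) ≫ e.hom.left := by
      rw [show CommRingCat.ofHom h'.toRingHom = φ from rfl, hC, ← Over.comp_left, ← Over.comp_left]
      simp [C]
    have hpt := fun z => ptsEquiv_comp e e c h' hf z
    refine (ProjRep.ptsEquiv e).injective (WithConv.ext (AlgHom.ext fun x => ?_))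
    have hinv : ∀ (z : RP G) (b : RP B₀), (ProjRep.ptsEquiv e (z * (b ≫ b₀))).ofConv (h' x) =
        (ProjRep.ptsEquiv e z).ofConv (h' x) := fun z b => by
      have e1 : (z * (b ≫ b₀)) ≫ c = z ≫ c := by
        rw [hc, hc, _root_.mul_inv_rev]
        calc z * (b ≫ b₀) * (q ≫ b₀) * ((b ≫ b₀)⁻¹ * z⁻¹)
            = z * ((b * q) ≫ b₀) * (b ≫ b₀)⁻¹ * z⁻¹ := by rw [MonObj.mul_comp]; group
          _ = _ := by rw [hcomm₀ b q, MonObj.mul_comp]; group
      have h2 := congrArg (fun w => (ProjRep.ptsEquiv e w).ofConv x) e1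
      simp only [hpt] at h2
      exact h2
    have h3 := eq_of_invariant b₀ a o hX e (h' x) hinv g
    have h4 : (ProjRep.ptsEquiv e (g ≫ c)).ofConv x = (ProjRep.ptsEquiv e (1 ≫ c)).ofConv x := by
      rw [hpt, hpt]; exact h3
    rw [hc, hc, _root_.one_mul, inv_one, _root_.mul_one] at h4
    exact h4
  have h1 : p ≫ iB = h⁻¹ * ((p ≫ ε.hom) ≫ b₀) * h := by
    rw [Category.assoc, hε, comp_conjBy, toUnit_one, Category.id_comp]; group
  have h2 := key (p ≫ ε.hom) h⁻¹
  have h5 : p ≫ iB = (p ≫ ε.hom) ≫ b₀ := by rw [h1]; simpa using h2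
  rw [h5]
  exact mul_inv_eq_iff_eq_mul.1 (key (p ≫ ε.hom) g)

/-- A connected group without non-trivial connected unipotent subgroups is a torus. -/
theorem isTorus_of_noUnipotent {G : Over (Spec (CommRingCat.of k))} [GrpObj G] [IsAffine G.left] [Smooth G.hom]
    [ConnectedSpace G.left]
    (h : ∀ (U : Over (Spec (CommRingCat.of k))) [GrpObj U] (i : U ⟶ G) [IsMonHom i], IsClosedImmersion i.left →
      Smooth U.hom → ConnectedSpace U.left → Red.HasNoSubtorus k U → Red.IsTrivialGrp U) :
    Red.IsTorus G := by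
  obtain ⟨B, _, iB, hB, -⟩ := exists_borel_proper G
  obtain ⟨hbm, hbc, hbs, hbconn, hbsol, hbmax⟩ := id hB
  haveI := hbm; haveI := hbc; haveI := hbs; haveI := hbconn
  haveI : IsAffine B.left := isAffine_of_isAffineHom iB.left
  haveI := isSolvable_rp hbsol
  haveI : Mono iB := GrpField.SchImg.mono_of_isClosedImmersion iB
  have hBt : Red.IsTorus B := isTorus_of_solvable fun U _ i _ hic hUs hUc _ hUt => by
    haveI := hic
    haveI : IsClosedImmersion (i ≫ iB).left := inferInstanceAs (IsClosedImmersion (i.left ≫ iB.left))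
    exact h U (i ≫ iB) inferInstance hUs hUc hUt
  have hmax : AGF.IsMaxTorus iB := ⟨inferInstance, inferInstance, hBt, fun T' _ j _ _ f hT' hf => by
    haveI := isAffine_of_isTorus hT'
    haveI := smooth_of_isTorus hT'
    haveI := connectedSpace_of_isTorus hT'
    haveI : Group.IsSolvable (RP T') := Group.isSolvable_of_comm (rp_torus_comm hT')
    haveI : IsClosedImmersion j.left := MTBridge.isClosedImmersion_of_mono
      (MTBridge.locally_of_isMultTypeFT' T' (MTBridge.isMultTypeFT_of_isTorus T' hT')) inferInstance j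
    exact hbmax T' j f inferInstance inferInstance inferInstance (isSolvableGrp_of_rp T') hf⟩
  obtain ⟨B', _, iB', hB', hiso⟩ := exists_borel_iso_of_central iB hmax fun p g =>
    isIso_of_borel_comm iB hB (rp_torus_comm hBt) g p
  haveI := hB'.1; haveI := hiso
  obtain ⟨g, ε, hε⟩ := borel_conj iB iB' hB hB'
  haveI := isMonHom_conjBy g iB
  haveI : IsIso (ε.hom ≫ iB') := @IsIso.comp_isIso _ _ _ _ _ ε.hom iB' (Iso.isIso_hom ε) hiso
  haveI : IsIso (AGF.conjBy g iB) := by rw [← hε]; infer_instance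
  haveI : IsMonHom (asIso (AGF.conjBy g iB)).hom := isMonHom_conjBy g iB
  exact isTorus_of_iso (asIso (AGF.conjBy g iB)) hBt

end Groth.Agent.UniRad
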