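import Groth.Agent.UniRad.TorusCrit
import Groth.Agent.S5255
import Groth.Agent.RedOpen.Component

/-!
# Normal subgroups of semisimple groups
-/

set_option autoImplicit false
set_option backward.isDefEq.respectTransparency false
set_option linter.style.haveILetI false
set_option linter.unusedSectionVars false
set_option maxHeartbeats 1000000
set_option synthInstance.maxHeartbeats 200000

universe u

open CategoryTheory CategoryTheory.Limits MonoidalCategory CartesianMonoidalCategory MonObj GrpObj AlgebraicGeometry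
open Groth.Agent.SubGen (rpt map_rpt exists_rpt)

noncomputable section

namespace Groth.Agent.UniRad

open Chev Chev.BorelFixed Chev.Borel

variable {k : Type u} [Field k] [IsAlgClosed k] {G : Over (Spec (CommRingCat.of k))} [GrpObj G]

/-- A semisimple group has no non-trivial connected commutative normal subgroups. -/
theorem isTrivial_of_comm_normal (hG : Red.IsSemisimpleOver k G) {H : Over (Spec (CommRingCat.of k))} [GrpObj H]
    (i : H ⟶ G) [IsMonHom i] [IsClosedImmersion i.left] [Smooth H.hom] [ConnectedSpace H.left]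
    (hN : AlgGrp.IsNormalHom i) (hcomm : ∀ p q : RP H, p * q = q * p) : Red.IsTrivialGrp H := by
  obtain ⟨⟨hGa, hGs, hGc, -⟩, htor⟩ := id hG
  haveI := hGa; haveI := hGs; haveI := hGc
  obtain ⟨hHa, -, -, hHu⟩ := isReductiveOver_of_normal hG.1 i hN
  haveI := hHa
  haveI : Group.IsSolvable (RP H) := Group.isSolvable_of_comm hcomm
  exact htor H i inferInstance hN (isTorus_of_solvable fun U _ j _ hjc hUs hUc hUn hUt => hHu U j hjc hUs hUc hUn hUt)

/-- A connected normal subgroup of a semisimple group is semisimple. -/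
theorem isSemisimpleOver_of_normal (hG : Red.IsSemisimpleOver k G) {N : Over (Spec (CommRingCat.of k))} [GrpObj N]
    (iN : N ⟶ G) [IsMonHom iN] [IsClosedImmersion iN.left] [Smooth N.hom] [ConnectedSpace N.left]
    (hN : AlgGrp.IsNormalHom iN) : Red.IsSemisimpleOver k N := by
  obtain ⟨⟨hGa, hGs, hGc, -⟩, -⟩ := id hG
  haveI := hGa; haveI := hGs; haveI := hGc
  have hNr := isReductiveOver_of_normal hG.1 iN hN
  refine ⟨hNr, fun T _ t _ htc htn hT => ?_⟩
  haveI := htc
  haveI : IsAffine N.left := hNr.1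
  haveI := isAffine_of_isTorus hT
  haveI := smooth_of_isTorus hT
  haveI := connectedSpace_of_isTorus hT
  haveI : IsReduced T.left := SmoothRed.isReduced_of_smooth_scheme T.hom
  haveI : IsAffineHom N.hom := isAffineHom_of_isAffine N.hom
  haveI : Mono iN := GrpField.SchImg.mono_of_isClosedImmersion iN
  have hconn : ∀ s : Spec (CommRingCat.of k),
      ConnectedSpace ↥(pullback N.hom ((Spec (CommRingCat.of k)).fromSpecResidueField s)) := fun s => by
    have h : _root_.IsConnected (N.hom.base ⁻¹' {s}) := by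
      haveI : Subsingleton ↥(Spec (CommRingCat.of k)) := inferInstanceAs (Subsingleton (PrimeSpectrum k))
      rw [show N.hom.base ⁻¹' {s} = Set.univ from Set.eq_univ_of_forall fun _ => Subsingleton.elim _ _]
      exact isConnected_univ
    rw [← N.hom.range_fiberι s] at h
    refine connectedSpace_iff_univ.2 ⟨⟨Classical.choice (Set.range_nonempty_iff_nonempty.1 h.nonempty), trivial⟩, ?_⟩
    exact (N.hom.fiberι s).isEmbedding.isInducing.isPreconnected_image.1 (by rw [Set.image_univ]; exact h.2)
  haveI : Mono t := GrpField.SchImg.mono_of_isClosedImmersion t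
  have hcent := S5255.result N T hconn t (MTBridge.isMultTypeFT_of_isTorus T hT) htn
  -- the rational points of the centre of N
  let S : Subgroup (RP G) :=
    { carrier := {p | ∃ q : RP N, q ≫ iN = p ∧ ∀ r : RP N, r * q = q * r}
      one_mem' := ⟨1, MonObj.one_comp iN, fun r => by rw [_root_.mul_one, _root_.one_mul]⟩
      mul_mem' := by
        rintro _ _ ⟨q, rfl, hq⟩ ⟨q', rfl, hq'⟩
        refine ⟨q * q', MonObj.mul_comp q q' iN, fun r => ?_⟩
        rw [← _root_.mul_assoc, hq, _root_.mul_assoc, hq', _root_.mul_assoc]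
      inv_mem' := by
        rintro _ ⟨q, rfl, hq⟩
        exact ⟨q⁻¹, GrpObj.inv_comp q iN, fun r => (Commute.inv_right (hq r)).eq⟩ }
  have hSconj : ∀ (a : RP G), ∀ p ∈ S, a * p * a⁻¹ ∈ S := by
    rintro a _ ⟨q, rfl, hq⟩
    obtain ⟨q', hq'⟩ := hN (𝟙_ _) a q
    refine ⟨q', hq'.symm, fun r => (cancel_mono iN).1 ?_⟩
    obtain ⟨r', hr'⟩ := hN (𝟙_ _) a⁻¹ r
    rw [_root_.inv_inv] at hr'
    have h1 := congrArg (fun z => z ≫ iN) (hq r')
    simp only [MonObj.mul_comp, ← hr'] at h1
    simp only [MonObj.mul_comp, ← hq']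
    have h2 := congrArg (fun z => a * z * a⁻¹) h1
    simpa only [_root_.mul_assoc, mul_inv_cancel_left, inv_mul_cancel_left, mul_inv_cancel, _root_.mul_one] using h2
  haveI : LocallyOfFiniteType G.hom := inferInstance
  obtain ⟨H, _, i, him, hic, hHs, hr⟩ := GrpField.RatClosure.exists_subgroup_closure (G := G) S
  haveI := him; haveI := hic; haveI := hHs
  haveI : IsReduced H.left := SmoothRed.isReduced_of_smooth_scheme H.hom
  obtain ⟨V, _, j, hjm, hjo, hjc, hVconn, hVcp⟩ := RedOpen.exists_open_connected H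
  haveI := hjm; haveI := hjo; haveI := hjc; haveI := hVconn
  let v : V ⟶ G := j ≫ i
  haveI : IsMonHom v := by dsimp [v]; infer_instance
  haveI : IsClosedImmersion v.left := inferInstanceAs (IsClosedImmersion (j.left ≫ i.left))
  haveI : Smooth V.hom := by rw [← Over.w j]; infer_instance
  haveI : Mono v := GrpField.SchImg.mono_of_isClosedImmersion v
  obtain ⟨t₀⟩ : Nonempty ↥(𝟙_ (Over (Spec (CommRingCat.of k)))).left := inferInstanceAs (Nonempty (PrimeSpectrum k))
  have hfac : ∀ {X : Over (Spec (CommRingCat.of k))} [IsReduced X.left] [LocallyOfFiniteType X.hom]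
      [ConnectedSpace X.left] (f : X ⟶ G) (x : X.left), (∀ z : RP X, z ≫ f ∈ S) → f.left x = η[G].left t₀ →
      ∃ f' : X ⟶ V, f' ≫ v = f := by
    intro X _ _ _ f x hf hx
    obtain ⟨g, hg⟩ := exists_lift_rp f i fun z => by
      rw [hr]
      exact subset_closure ⟨z ≫ f, hf z, rfl⟩
    obtain ⟨f', hf'⟩ := RedOpen.exists_factor_conn j g ⟨x, η[V].left t₀, by
      refine i.left.isClosedEmbedding.injective ?_
      rw [← Scheme.Hom.comp_apply g.left, ← Over.comp_left, hg, hx, ← Scheme.Hom.comp_apply, ← Scheme.Hom.comp_apply,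
        ← Over.comp_left, ← Over.comp_left, ← Category.assoc, IsMonHom.one_hom j, IsMonHom.one_hom i]⟩
    exact ⟨f', by rw [← Category.assoc, hf', hg]⟩
  -- the points of H commute with those of N, hence with one another
  have hHN : ∀ (q : RP H), ∃ q' : RP N, q' ≫ iN = q ≫ i := fun q => by
    refine exists_rp_lift iN (q ≫ i) ((closure_minimal ?_ iN.left.isClosedEmbedding.isClosed_range)
      (hr.le ⟨rpt q, map_rpt _ _⟩))
    rintro _ ⟨_, ⟨q', rfl, -⟩, rfl⟩
    exact ⟨rpt q', map_rpt _ _⟩
  have hcommN : ∀ (r : RP N) (q : RP H), (r ≫ iN) * (q ≫ i) = (q ≫ i) * (r ≫ iN) := by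
    intro r q
    let c : G ⟶ G := (toUnit G ≫ r ≫ iN) * 𝟙 G * (toUnit G ≫ r ≫ iN)⁻¹
    have hc : ∀ z : RP G, z ≫ c = (r ≫ iN) * z * (r ≫ iN)⁻¹ := fun z => by
      simp only [c, MonObj.comp_mul, GrpObj.comp_inv, rp_const, Category.comp_id]
    haveI : IsSeparated G.hom := inferInstance
    let E := Limits.equalizer c (𝟙 G)
    let ei : E ⟶ G := Limits.equalizer.ι _ _
    haveI : IsClosedImmersion ei.left := inferInstance
    have hq : rpt (q ≫ i) ∈ Set.range ei.left := by
      refine (closure_minimal ?_ ei.left.isClosedEmbedding.isClosed_range) (hr.le ⟨rpt q, map_rpt _ _⟩)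
      rintro _ ⟨_, ⟨q', rfl, hq'⟩, rfl⟩
      refine ⟨rpt (Limits.equalizer.lift (q' ≫ iN) (by
        rw [hc, Category.comp_id, ← MonObj.mul_comp, hq', MonObj.mul_comp, mul_inv_cancel_right])), ?_⟩
      rw [map_rpt, Limits.equalizer.lift_ι]
      rfl
    obtain ⟨w, hw⟩ := exists_rp_lift ei (q ≫ i) hq
    have h := congrArg (w ≫ ·) (Limits.equalizer.condition c (𝟙 G))
    simp only [← Category.assoc] at h
    rw [show w ≫ Limits.equalizer.ι c (𝟙 G) = q ≫ i from hw, hc, Category.comp_id] at h
    exact mul_inv_eq_iff_eq_mul.1 h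
  have hVn : AlgGrp.IsNormalHom v := by
    obtain ⟨hc, hs, hred⟩ := prod_conn G V
    haveI := hc; haveI := hs; haveI := hred
    let F : G ⊗ V ⟶ G := fst G V * (snd G V ≫ v) * (fst G V)⁻¹
    obtain ⟨n, hn⟩ := hfac F ((lift η[G] η[V] : 𝟙_ _ ⟶ G ⊗ V).left t₀)
      (fun z => by
        obtain ⟨q', hq'⟩ := hHN ((z ≫ snd G V) ≫ j)
        have hzS : (z ≫ snd G V) ≫ v ∈ S := ⟨q', by simp only [v, ← Category.assoc]; exact hq', fun r =>
          (cancel_mono iN).1 (by
            rw [MonObj.mul_comp, MonObj.mul_comp, hq']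
            exact hcommN r _)⟩
        have := hSconj (z ≫ fst G V) _ hzS
        simpa only [F, MonObj.comp_mul, GrpObj.comp_inv, Category.assoc] using this)
      (by
        rw [← Scheme.Hom.comp_apply, ← Over.comp_left]
        congr 1
        congr 1
        simp only [F, MonObj.comp_mul, GrpObj.comp_inv, CartesianMonoidalCategory.lift_fst,
          CartesianMonoidalCategory.lift_snd_assoc, IsMonHom.one_hom v]
        rw [MonObj.one_eq_one, _root_.mul_one, mul_inv_cancel])
    intro X g z
    refine ⟨lift g z ≫ n, ?_⟩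
    rw [Category.assoc, hn, MonObj.comp_mul, MonObj.comp_mul, GrpObj.comp_inv, CartesianMonoidalCategory.lift_snd_assoc,
      CartesianMonoidalCategory.lift_fst]
  have hVtriv : Red.IsTrivialGrp V := isTrivial_of_comm_normal hG v hVn fun p q => (cancel_mono v).1 (by
    obtain ⟨p', hp'⟩ := hHN (p ≫ j)
    rw [MonObj.mul_comp, MonObj.mul_comp]
    simp only [v, ← Category.assoc]
    rw [← hp']
    exact hcommN p' _)
  obtain ⟨f, hf⟩ := hfac (t ≫ iN) (η[T].left t₀) (fun z => ⟨z ≫ t, Category.assoc _ _ _, fun r => by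
      have h := hcent (𝟙_ _) r z
      exact h⟩)
    (by rw [← Scheme.Hom.comp_apply, ← Over.comp_left, IsMonHom.one_hom (t ≫ iN)])
  haveI : Mono (f ≫ v) := by rw [hf]; exact mono_comp t iN
  haveI : Mono f := mono_of_mono f v
  exact isTrivialGrp_of_mono f hVtriv

end Groth.Agent.UniRad
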