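import Groth.Agent.UniRad.Fix
import Groth.Agent.UniRad.Radical

/-!
# Subgroups in the unipotent radicals of all Borel subgroups through a maximal torus
-/

set_option autoImplicit false
set_option backward.isDefEq.respectTransparency false
set_option linter.style.haveILetI false
set_option linter.unusedSectionVars false
set_option maxHeartbeats 1000000
set_option synthInstance.maxHeartbeats 200000

universe u

open CategoryTheory CategoryTheory.Limits MonoidalCategory CartesianMonoidalCategory MonObj GrpObj AlgebraicGeometry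
open WithConv
open Groth.Agent.SubGen (rpt map_rpt exists_rpt)
open Groth.Agent.MTBridge (specGrp)

noncomputable section

namespace Groth.Agent.UniRad

open Chev Chev.BorelFixed Chev.Borel RedCartan

variable {k : Type u} [Field k] [IsAlgClosed k] {G : Over (Spec (CommRingCat.of k))} [GrpObj G] [IsAffine G.left]
  [Smooth G.hom] [ConnectedSpace G.left]

/-- A group fixing all good forms fixes the cone. -/
theorem eq_self_of_goodForms {B T H : Over (Spec (CommRingCat.of k))} [GrpObj B] [GrpObj T] [GrpObj H]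
    [IsAffine H.left] [Smooth H.hom] [ConnectedSpace H.left] {V : Type u} [AddCommGroup V] [Module k V]
    [Module.Finite k V] {A : Type u} [CommRing A] [HopfAlgebra k A]
    (iT : T ⟶ G) (hT : AGF.IsMaxTorus iT) (iB : B ⟶ G) (hB : Red.IsBorelOver k iB)
    {X : Over (Spec (CommRingCat.of k))} (aX : AlgGrp.Action G X) (o : RP X) (hX : AGF.IsQuotient iB X aX o)
    (e : (specGrp k A).X ≅ G) [IsMonHom e.hom] {ρ : RP G →* Module.End k V} (hρ : IsRegular e ρ) {v : V} (hv : v ≠ 0)
    (hline : ∀ g : RP G, (∃ b : RP B, b ≫ iB = g) ↔ ∃ c : k, ρ g v = c • v)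
    (hspan : Submodule.span k (cone ρ v) = ⊤) (f : H ⟶ G) [IsMonHom f]
    (hinv : ∀ φ : V →ₗ[k] k, GoodForm iT iB ρ v φ → ∀ (p : RP H) (z : V), φ (ρ (p ≫ f) z) = φ z)
    (h : RP H) {x : V} (hx : x ∈ cone ρ v) : ρ (h ≫ f) x = x := by
  classical
  haveI := hT.1; haveI := hT.2.1
  haveI := hB.1; haveI := hB.2.1; haveI := hB.2.2.1; haveI := hB.2.2.2.1
  haveI : IsAffine B.left := isAffine_of_isAffineHom iB.left
  haveI := isAffine_of_isTorus hT.2.2.1
  haveI := smooth_of_isTorus hT.2.2.1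
  haveI := locallyOfFiniteType_of_isTorus hT.2.2.1
  haveI : IsReduced T.left := SmoothRed.isReduced_of_smooth_scheme T.hom
  obtain ⟨R, hR, e', he'⟩ := FinHopf.exists_hopf (R := CommRingCat.of k) H
  haveI := he'
  obtain ⟨A', hA', eB, heB⟩ := FinHopf.exists_hopf (R := CommRingCat.of k) B
  haveI := heB
  haveI : IsIso e'.hom.left := inferInstanceAs (IsIso ((Over.forget _).map e'.hom))
  haveI : IsDomain R := isDomain_of_smooth_connected e'
  haveI : Algebra.FiniteType k R := by
    have h0 : LocallyOfFiniteType (e'.hom.left ≫ H.hom) := inferInstance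
    rw [Over.w e'.hom] at h0
    exact RingHom.finiteType_algebraMap.1 ((HasRingHomProperty.Spec_iff (P := @LocallyOfFiniteType)).1 h0)
  have hK : IsZar (k := k) (cone ρ v) := isZar_cone iB hB aX o hX e hρ hv fun b => (hline _).1 ⟨b, rfl⟩
  let Φ : Set (V →ₗ[k] k) := {φ | GoodForm iT iB ρ v φ}
  have hsep : ∀ y ∈ cone ρ v, (∀ φ ∈ Φ, φ y = 0) → y = 0 := by
    intro y hy hyΦ
    by_contra hy0
    obtain ⟨J, Q, L, hop, hQL, hQe⟩ := exists_cochar hT.2.2.1 iT e hρ
    have hop1 : ρ (L 1 ≫ iT) = 1 := LinearMap.ext fun z => by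
      have h1 : ρ (L 1 ≫ iT) z = ∑ j ∈ J, Q j z := (hop 1 z).trans (Finset.sum_congr rfl fun j _ => by simp)
      have h2 : ρ (L 1 ≫ iT) (∑ j ∈ J, Q j z) = ∑ j ∈ J, Q j z := by
        rw [map_sum]
        exact Finset.sum_congr rfl fun j hj => by rw [hQL 1 j hj z]; simp
      rw [← h1] at h2
      have h3 := congrArg (ρ (L 1 ≫ iT)⁻¹) h2
      rw [rho_cancel, rho_cancel] at h3
      rw [h3, Module.End.one_apply]
    obtain ⟨j₀, hj₀, hne, -, hmem⟩ := exists_leading (hK.inter_ker Φ)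
      (fun z hz c => ⟨smul_mem_cone ρ v hz.1 c, fun φ hφ => by rw [map_smul, hz.2 φ hφ, smul_zero]⟩) J Q
      (fun s => ρ (L s ≫ iT)) hop (fun s z hz => ⟨rho_mem_cone ρ v hz.1 _, fun φ hφ => by
        obtain ⟨a, ha⟩ := GoodForm.smul_torus hline hφ (L s)
        rw [ha, hz.2 φ hφ, mul_zero]⟩) hop1 (⟨hy, hyΦ⟩ : y ∈ {z ∈ cone ρ v | ∀ φ ∈ Φ, φ z = 0}) hy0
    obtain ⟨φ, hφ, hφ0⟩ := exists_goodForm iT hT iB hB aX o hX e hρ hv hline hK hspan eB hmem.1 hne fun t => by
      obtain ⟨c, hc⟩ := hQe t j₀ hj₀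
      exact ⟨c, hc y⟩
    exact hφ0 (hmem.2 φ hφ)
  have hρ' := hρ.comp e' f
  choose w hw using fun i => hρ' ((Module.finBasis k V).coord i) x
  have hwpt : ∀ ψ : R →ₐ[k] k, coo (ρ ((ProjRep.ptsEquiv e').symm (toConv ψ) ≫ f) x) = fun i => ψ (w i) :=
    fun ψ => funext fun i => by
      have := hw i ((ProjRep.ptsEquiv e').symm (toConv ψ))
      rw [MulEquiv.apply_symm_apply] at this
      exact this.symm
  choose c hc using exists_const_coords hK (fun z hz a => smul_mem_cone ρ v hz a) Φ hsep w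
    (fun ψ => ⟨_, rho_mem_cone ρ v hx _, hwpt ψ⟩)
    (fun φ hφ => ⟨φ x, fun ψ z hz => by
      rw [coo_injective (hz.trans (hwpt ψ).symm)]
      exact hinv φ hφ _ x⟩)
  refine coo_injective (k := k) (funext fun i => ?_)
  have h1 := hw i h
  have h2 := hw i 1
  rw [hc] at h1 h2
  have h3 : ∀ q : RP H, (ProjRep.ptsEquiv e' q) (algebraMap k R (c i)) = c i := fun q =>
    (ProjRep.ptsEquiv e' q).ofConv.commutes (c i)
  rw [h3] at h1 h2
  show (Module.finBasis k V).coord i _ = (Module.finBasis k V).coord i x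
  refine h1.symm.trans (h2.trans ?_)
  rw [map_one]
  rfl

/-- **A connected subgroup in the unipotent radical of every Borel subgroup through a maximal torus lies in the
unipotent radical.** -/
theorem exists_le_of_le_borels {U T H : Over (Spec (CommRingCat.of k))} [GrpObj U] [GrpObj T] [GrpObj H]
    {u : U ⟶ G} (hU : Par.IsUnipotentRadical u) (iT : T ⟶ G) (hT : AGF.IsMaxTorus iT) (j : H ⟶ G) [IsMonHom j]
    [IsClosedImmersion j.left] [Smooth H.hom] [ConnectedSpace H.left]
    (hH : ∀ (B : Over (Spec (CommRingCat.of k))) [GrpObj B] (iB : B ⟶ G) (t : T ⟶ B), Red.IsBorelOver k iB → t ≫ iB = iT →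
      ∀ (V : Over (Spec (CommRingCat.of k))) [GrpObj V] (v : V ⟶ B), Par.IsUnipotentRadical v → ∃ f : H ⟶ V, f ≫ v ≫ iB = j) :
    ∃ g : H ⟶ U, g ≫ u = j := by
  classical
  haveI := hT.1; haveI := hT.2.1
  haveI := isAffine_of_isTorus hT.2.2.1
  haveI := smooth_of_isTorus hT.2.2.1
  haveI := locallyOfFiniteType_of_isTorus hT.2.2.1
  haveI : IsReduced T.left := SmoothRed.isReduced_of_smooth_scheme T.hom
  haveI : IsAffine H.left := isAffine_of_isAffineHom j.left
  haveI : IsReduced H.left := SmoothRed.isReduced_of_smooth_scheme H.hom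
  haveI : Mono j := GrpField.SchImg.mono_of_isClosedImmersion j
  -- H has no subtori
  have hHt : Red.HasNoSubtorus k H := by
    obtain ⟨B', _, iB', t, hB', ht⟩ := exists_borel_containing_torus iT hT.2.2.1
    haveI := hB'.1; haveI := hB'.2.1; haveI := hB'.2.2.1; haveI := hB'.2.2.2.1
    haveI : IsAffine B'.left := isAffine_of_isAffineHom iB'.left
    haveI : Group.IsSolvable (RP B') := isSolvable_rp hB'.2.2.2.2.1
    obtain ⟨V, _, v, hv, -, -, hVt⟩ := exists_radical B'
    obtain ⟨f, hf⟩ := hH B' iB' t hB' ht V v hv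
    haveI := hv.1; haveI := hv.2.1
    haveI : Mono iB' := GrpField.SchImg.mono_of_isClosedImmersion iB'
    haveI : Mono v := GrpField.SchImg.mono_of_isClosedImmersion v
    haveI : Mono (v ≫ iB') := mono_comp _ _
    haveI : IsMonHom f := MTSplit.isMonHom_of_comp_mono f (v ≫ iB') j hf
    haveI : Mono f := by
      haveI : Mono (f ≫ v ≫ iB') := by rw [hf]; infer_instance
      exact mono_of_mono f (v ≫ iB')
    intro S _ s _ _ hS
    exact hVt S (s ≫ f) hS
  -- the flag variety and the cone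
  obtain ⟨A, hA, e, he⟩ := FinHopf.exists_hopf (R := CommRingCat.of k) G
  haveI := he
  obtain ⟨B, hBg, iB, hB, X, aX, o, hX, -⟩ := exists_borel_proper G
  obtain ⟨hBm, hBc, hBs, hBconn, hBsol, -⟩ := id hB
  haveI := hBm; haveI := hBc; haveI := hBs; haveI := hBconn
  haveI : IsAffine B.left := isAffine_of_isAffineHom iB.left
  haveI : Mono iB := GrpField.SchImg.mono_of_isClosedImmersion iB
  haveI : Group.IsSolvable (RP B) := isSolvable_rp hBsol
  haveI : IsReduced B.left := SmoothRed.isReduced_of_smooth_scheme B.hom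
  obtain ⟨V₁, _, _, hfin, ρ₁, v₁, hv₁, hρ₁, hline₁⟩ := exists_borel_line iB hB e
  haveI := hfin
  -- restrict to the span of the cone
  let V₀ := Submodule.span k (cone ρ₁ v₁)
  have hstab : ∀ g : RP G, ∀ z ∈ V₀, ρ₁ g z ∈ V₀ := fun g z hz => by
    have hle : V₀ ≤ V₀.comap (ρ₁ g) :=
      Submodule.span_le.2 fun y hy => Submodule.subset_span (rho_mem_cone ρ₁ v₁ hy g)
    exact hle hz
  let ρ : RP G →* Module.End k V₀ :=
    { toFun := fun g => (ρ₁ g).restrict (hstab g)
      map_one' := LinearMap.ext fun x => Subtype.ext (by simp)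
      map_mul' := fun a b => LinearMap.ext fun x => Subtype.ext (by simp) }
  let v : V₀ := ⟨v₁, Submodule.subset_span (self_mem_cone ρ₁ v₁)⟩
  have hv : v ≠ 0 := fun h => hv₁ (congrArg Subtype.val h)
  have hρ : IsRegular e ρ := fun l w => by
    obtain ⟨l', hl'⟩ := LinearMap.exists_extend l
    obtain ⟨a, ha⟩ := hρ₁ l' w.1
    refine ⟨a, fun g => (ha g).trans ?_⟩
    rw [← hl']
    rfl
  have hline : ∀ g : RP G, (∃ b : RP B, b ≫ iB = g) ↔ ∃ c : k, ρ g v = c • v := fun g =>
    (hline₁ g).trans ⟨fun ⟨c, hc⟩ => ⟨c, Subtype.ext hc⟩, fun ⟨c, hc⟩ => ⟨c, congrArg Subtype.val hc⟩⟩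
  have hspan : Submodule.span k (cone ρ v) = ⊤ := by
    refine Submodule.map_injective_of_injective V₀.injective_subtype ?_
    rw [Submodule.map_span, Submodule.map_top, Submodule.range_subtype]
    congr 1
    ext z
    constructor
    · rintro ⟨_, ⟨g, c, rfl⟩, rfl⟩
      exact ⟨g, c, rfl⟩
    · rintro ⟨g, c, rfl⟩
      exact ⟨c • ρ g v, ⟨g, c, rfl⟩, rfl⟩
  have hinv : ∀ φ : V₀ →ₗ[k] k, GoodForm iT iB ρ v φ → ∀ (p : RP H) (z : V₀), φ (ρ (p ≫ j) z) = φ z := by
    rintro φ ⟨g, hg, heig⟩ p z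
    obtain ⟨t', ht'⟩ := exists_thru iT iB hline hg
    haveI := isMonHom_conjBy g iB
    haveI := isClosedImmersion_conjBy g iB
    obtain ⟨V, _, vV, hvV, hVa, hVc, hVt⟩ := exists_radical B
    haveI := hVa; haveI := hVc; haveI := hvV.1; haveI := hvV.2.2.2.1
    obtain ⟨f, hf⟩ := hH B (AGF.conjBy g iB) t' (isBorelOver_conjBy g iB hB) ht' V vV hvV
    obtain ⟨A', hA', eV, heV⟩ := FinHopf.exists_hopf (R := CommRingCat.of k) V
    haveI := heV
    let cG := vV ≫ AGF.conjBy g iB
    haveI : IsMonHom cG := by dsimp [cG]; infer_instance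
    have hpt : ∀ q : RP V, q ≫ cG = g * ((q ≫ vV) ≫ iB) * g⁻¹ := fun q => by
      rw [← Category.assoc, comp_conjBy, toUnit_one, Category.id_comp]
    let q := p ≫ f
    have hq : q ≫ cG = p ≫ j := by rw [Category.assoc, hf]
    obtain ⟨a, ha⟩ := heig (q ≫ vV)
    have ha' : ∀ z, φ (ρ (q ≫ cG) z) = a * φ z := fun z => by rw [hpt]; exact ha z
    obtain ⟨n, hn⟩ := RedOpen.isNilpotent_of_noSubtorus hVt eV (hρ.comp eV cG) q
    have hpow : ∀ (l : ℕ) (z : V₀), φ (((ρ.comp (BorelFixed.rpHom cG) q - 1) ^ l) z) = (a - 1) ^ l * φ z := by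
      intro l
      induction l with
      | zero => intro z; simp
      | succ l ih =>
        intro z
        rw [pow_succ, Module.End.mul_apply, ih, LinearMap.sub_apply, map_sub, Module.End.one_apply,
          show φ (ρ.comp (BorelFixed.rpHom cG) q z) = a * φ z from ha' z, pow_succ]
        ring
    rw [← hq, ha']
    by_cases hφ : ∀ z, φ z = 0
    · rw [hφ z, mul_zero]
    push Not at hφ
    obtain ⟨z₀, hz₀⟩ := hφ
    have h1 := hpow n z₀
    rw [hn, LinearMap.zero_apply, map_zero, eq_comm, mul_eq_zero] at h1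
    rw [sub_eq_zero.1 (pow_eq_zero_iff'.1 (h1.resolve_right hz₀)).1, _root_.one_mul]
  -- every conjugate of H lies in the Borel subgroup
  have hfix : ∀ (g : RP G) (h : RP H), ∃ b : RP B, b ≫ iB = g * (h ≫ j) * g⁻¹ := by
    intro g h
    refine (hline _).2 ⟨1, ?_⟩
    have h1 := eq_self_of_goodForms iT hT iB hB aX o hX e hρ hv hline hspan j hinv h
      (rho_mem_cone ρ v (self_mem_cone ρ v) g⁻¹)
    rw [map_mul, map_mul, Module.End.mul_apply, Module.End.mul_apply, h1, one_smul]
    have h2 := rho_cancel ρ g⁻¹ v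
    rwa [_root_.inv_inv] at h2
  -- the subgroup generated by the conjugates
  let F : G ⊗ H ⟶ G := fst G H * (snd G H ≫ j) * (fst G H)⁻¹
  have hF : ∀ z : RP (G ⊗ H), z ≫ F = (z ≫ fst G H) * ((z ≫ snd G H) ≫ j) * (z ≫ fst G H)⁻¹ := fun z => by
    rw [MonObj.comp_mul, MonObj.comp_mul, GrpObj.comp_inv, ← Category.assoc z (snd G H)]
  obtain ⟨hGHc, hGHs, hGHr⟩ := prod_conn G H
  haveI := hGHc; haveI := hGHs; haveI := hGHr
  haveI : GeometricallyReduced (G ⊗ H).hom := Rigid.geometricallyReduced_of_smooth _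
  obtain ⟨K, hKg, i, w, him', hic, hw, hd, ⟨F', hF'⟩, hmin⟩ := SubGen.exists_generated F
  haveI := him'; haveI := hic
  haveI : Mono i := GrpField.SchImg.mono_of_isClosedImmersion i
  haveI : LocallyOfFiniteType K.hom := by rw [← Over.w i]; infer_instance
  haveI : IsAffine K.left := isAffine_of_isAffineHom i.left
  haveI := fun l => SubGen.geometricallyReduced_src (k := k) (G ⊗ H) l
  haveI : GeometricallyReduced K.hom := SubGen.geometricallyReduced_of_dense hd
  haveI : Smooth K.hom := by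
    letI : GrpObj (Over.mk K.hom) := hKg
    exact smooth_of_grpObj K.hom
  -- connected
  haveI : ConnectedSpace K.left := by
    obtain ⟨K₀, hK₀, incl, hincl, hcl, -, hrange, hgi, -, -⟩ := GrpComp.exists_identity_subgroup (G := K)
    haveI := hincl; haveI := hcl
    have hF0 : ∀ z : RP (G ⊗ H), rpt (z ≫ F') ∈ Set.range incl.left := fun z => by
      rw [hrange, ← map_rpt]
      let z₁ : RP (G ⊗ H) := lift 1 1
      have hz₁ : z₁ ≫ F' = 1 := by
        rw [← cancel_mono i, Category.assoc, hF', MonObj.one_comp, hF, lift_fst, lift_snd, MonObj.one_comp]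
        simp
      have hsub : F'.left '' Set.univ ⊆ connectedComponent (GrpComp.ept K) :=
        (isPreconnected_univ.image _ F'.left.continuous.continuousOn).subset_connectedComponent
          ⟨rpt z₁, trivial, by rw [map_rpt, hz₁]; rw [show (1 : RP K) = η[K] by rw [Hom.one_def, toUnit_one, Category.id_comp]]; rfl⟩
      exact hsub ⟨_, trivial, rfl⟩
    obtain ⟨G₀, hG₀⟩ := exists_lift_rp F' incl hF0
    haveI : IsClosedImmersion (incl ≫ i).left := inferInstanceAs (IsClosedImmersion (incl.left ≫ i.left))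
    obtain ⟨l, hl⟩ := hmin K₀ hK₀ (incl ≫ i) inferInstance inferInstance ⟨G₀, by rw [← Category.assoc, hG₀, hF']⟩
    have hl' : l ≫ incl = 𝟙 K := (cancel_mono i).1 (by rw [Category.assoc, hl, Category.id_comp])
    refine connectedSpace_iff_univ.2 ?_
    have hr : Set.range incl.left = Set.univ := Set.eq_univ_of_forall fun x => ⟨l.left x, by
      show (l ≫ incl).left x = x
      rw [hl']; rfl⟩
    rw [← hr, hrange]
    exact isConnected_connectedComponent
  haveI : IsReduced K.left := SmoothRed.isReduced_of_smooth_scheme K.hom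
  -- normal
  have hnorm : AlgGrp.IsNormalHom i := by
    have hgen : ∀ g : RP G, ∃ l : K ⟶ K, l ≫ i = AGF.conjBy g i := by
      intro g
      haveI := isMonHom_conjBy g⁻¹ i
      haveI := isClosedImmersion_conjBy g⁻¹ i
      obtain ⟨l, hl⟩ := hmin K hKg (AGF.conjBy g⁻¹ i) inferInstance inferInstance
        ⟨lift ((toUnit _ ≫ g) * fst G H) (snd G H) ≫ F', by
          rw [comp_conjBy, Category.assoc, hF']
          refine hom_ext_rp fun z => ?_
          simp only [MonObj.comp_mul, GrpObj.comp_inv, hF, ← Category.assoc z, comp_lift]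
          simp only [Category.assoc, hF, lift_fst, lift_snd, MonObj.comp_mul, rp_const]
          group⟩
      refine ⟨l, ?_⟩
      rw [show AGF.conjBy g i = AGF.conjBy g (l ≫ AGF.conjBy g⁻¹ i) by rw [hl], ← comp_conjBy', conjBy_conjBy,
        mul_inv_cancel, conjBy_one]
    obtain ⟨hc, hs, hr⟩ := prod_conn G K
    haveI := hs; haveI := hr
    obtain ⟨n, hn⟩ := exists_lift_rp (fst G K * (snd G K ≫ i) * (fst G K)⁻¹) i fun z => by
      obtain ⟨l, hl⟩ := hgen (z ≫ fst G K)
      refine ⟨rpt ((z ≫ snd G K) ≫ l), ?_⟩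
      rw [map_rpt, Category.assoc, hl, comp_conjBy, toUnit_one, Category.id_comp, MonObj.comp_mul, MonObj.comp_mul,
        GrpObj.comp_inv, Category.assoc]
    intro S g z
    refine ⟨lift g z ≫ n, ?_⟩
    rw [Category.assoc, hn, MonObj.comp_mul, MonObj.comp_mul, GrpObj.comp_inv, lift_fst, ← Category.assoc, lift_snd]
  -- no subtori
  obtain ⟨T₀, _, iT₀, π₀, hiT₀, hπ₀, -, hsec, hT₀, htori, -⟩ := exists_section_torus B
  haveI := hiT₀; haveI := hπ₀
  obtain ⟨N, hNg, iN, hiN, hNm, hNpb, hN⟩ := AgIsog.exists_kernel π₀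
  haveI := hiN; haveI := hNm
  haveI := isAffine_of_isTorus hT₀
  haveI : IsClosedImmersion iN.left := by
    haveI : IsClosedImmersion (η[T₀] : 𝟙_ _ ⟶ T₀).left := by
      haveI : IsSeparated T₀.hom := inferInstance
      haveI : IsClosedImmersion ((η[T₀] : 𝟙_ _ ⟶ T₀).left ≫ T₀.hom) := by
        rw [Over.w η[T₀]]
        exact inferInstanceAs (IsClosedImmersion (𝟙 (Spec (CommRingCat.of k))))
      exact IsClosedImmersion.of_comp (η[T₀] : 𝟙_ _ ⟶ T₀).left T₀.hom
    exact MorphismProperty.of_isPullback (P := @IsClosedImmersion) hNpb.flip inferInstance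
  obtain ⟨FB, hFB⟩ := exists_lift_rp F iB fun z => by
    obtain ⟨b, hb⟩ := hfix (z ≫ fst G H) (z ≫ snd G H)
    exact ⟨rpt b, by rw [map_rpt, hb, hF]⟩
  have hFπ : FB ≫ π₀ = 1 := by
    haveI := locallyOfFiniteType_of_isTorus hT₀
    refine hom_ext_rp fun z => ?_
    rw [MonObj.comp_one]
    obtain ⟨ψ, hψ⟩ := exists_lift_rp (AGF.conjBy (z ≫ fst G H) j) iB fun q => by
      obtain ⟨b, hb⟩ := hfix (z ≫ fst G H) q
      exact ⟨rpt b, by rw [map_rpt, hb, comp_conjBy, toUnit_one, Category.id_comp]⟩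
    haveI := isMonHom_conjBy (z ≫ fst G H) j
    haveI : IsMonHom ψ := MTSplit.isMonHom_of_comp_mono ψ iB _ hψ
    have h0 : ψ ≫ π₀ = 1 := hom_torus_eq_one hHt hT₀ (ψ ≫ π₀)
    have hzb : z ≫ FB = (z ≫ snd G H) ≫ ψ := (cancel_mono iB).1 (by
      rw [Category.assoc, hFB, Category.assoc (z ≫ snd G H) ψ iB, hψ, hF, comp_conjBy, toUnit_one, Category.id_comp])
    rw [← Category.assoc, hzb, Category.assoc, h0, MonObj.comp_one]
  obtain ⟨FN, hFN⟩ := (hN _ FB).2 hFπ
  haveI : IsClosedImmersion (iN ≫ iB).left := inferInstanceAs (IsClosedImmersion (iN.left ≫ iB.left))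
  obtain ⟨kN, hkN⟩ := hmin N hNg (iN ≫ iB) inferInstance inferInstance ⟨FN, by rw [← Category.assoc, hFN, hFB]⟩
  haveI : Mono (iN ≫ iB) := mono_comp iN iB
  haveI : IsMonHom kN := MTSplit.isMonHom_of_comp_mono kN (iN ≫ iB) i hkN
  have hnt : Red.HasNoSubtorus k K := by
    intro S _ t _ _ hS
    haveI : Mono (kN ≫ iN) := by
      haveI : Mono ((kN ≫ iN) ≫ iB) := by rw [Category.assoc, hkN]; infer_instance
      exact mono_of_mono (kN ≫ iN) iB
    let jB : S ⟶ B := t ≫ kN ≫ iN
    haveI : IsMonHom jB := by dsimp [jB]; infer_instance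
    haveI : Mono jB := by dsimp [jB]; infer_instance
    have hjπ : jB ≫ π₀ = 1 := (hN S jB).1 ⟨t ≫ kN, by simp [jB]⟩
    obtain ⟨g, f, -, hf⟩ := htori S jB hS
    have hf1 : f = 1 := by
      have h1 := congrArg (fun m => m ≫ π₀) hf
      simp only [MonObj.mul_comp, GrpObj.inv_comp, Category.assoc, hsec, Category.comp_id] at h1
      rw [h1, hjπ, _root_.mul_one, mul_inv_cancel]
    have hj1 : jB = 1 := by
      have h1 : (toUnit S ≫ g) * jB * (toUnit S ≫ g)⁻¹ = 1 := by
        rw [hf1, MonObj.one_comp] at hf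
        exact hf.symm
      have h2 := mul_inv_eq_one.1 h1
      rwa [mul_eq_left] at h2
    have hid : 𝟙 S = 1 := (cancel_mono jB).1 (by rw [Category.id_comp, MonObj.one_comp, hj1])
    rw [Hom.one_def] at hid
    refine ⟨η[S].left, ?_, ?_⟩
    · have h := congrArg CommaMorphism.left hid
      simp only [Over.comp_left, Over.toUnit_left] at h
      exact h.symm
    · exact Over.w η[S]
  -- conclusion
  obtain ⟨m, hm⟩ := exists_le_radical hU i hnorm hnt
  refine ⟨lift (1 : H ⟶ G) (𝟙 H) ≫ F' ≫ m, ?_⟩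
  rw [Category.assoc, Category.assoc, hm, hF', MonObj.comp_mul, MonObj.comp_mul, GrpObj.comp_inv, lift_fst,
    lift_snd_assoc]
  simp

end Groth.Agent.UniRad
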