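import Groth.Agent.UniRad.Exists

/-!
# The unipotent radical of a group which need not be connected
-/

set_option autoImplicit false
set_option backward.isDefEq.respectTransparency false
set_option linter.style.haveILetI false
set_option linter.unusedSectionVars false
set_option maxHeartbeats 1000000
set_option synthInstance.maxHeartbeats 200000

universe u

open CategoryTheory CategoryTheory.Limits MonoidalCategory CartesianMonoidalCategory MonObj GrpObj AlgebraicGeometry
open Groth.Agent.SubGen (rpt map_rpt exists_rpt)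

noncomputable section

namespace Groth.Agent.UniRad

open Chev Chev.BorelFixed Chev.Borel

variable {k : Type u} [Field k] [IsAlgClosed k] {G G₀ : Over (Spec (CommRingCat.of k))} [GrpObj G] [GrpObj G₀]
  (j : G₀ ⟶ G) [IsMonHom j] [IsOpenImmersion j.left]

/-- A connected group mapping homomorphically to `G` maps into an open subgroup. -/
theorem exists_factor_conn_hom {H : Over (Spec (CommRingCat.of k))} [GrpObj H] [ConnectedSpace H.left] (f : H ⟶ G)
    [IsMonHom f] : ∃ f' : H ⟶ G₀, f' ≫ j = f ∧ IsMonHom f' := by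
  haveI : Mono j := Over.mono_of_mono_left j
  obtain ⟨t⟩ : Nonempty ↥(𝟙_ (Over (Spec (CommRingCat.of k)))).left := inferInstanceAs (Nonempty (PrimeSpectrum k))
  obtain ⟨f', hf'⟩ := RedOpen.exists_factor_conn j f ⟨η[H].left t, η[G₀].left t, by
    rw [← Scheme.Hom.comp_apply, ← Scheme.Hom.comp_apply, ← Over.comp_left, ← Over.comp_left,
      IsMonHom.one_hom f, IsMonHom.one_hom j]⟩
  exact ⟨f', hf', MTSplit.isMonHom_of_comp_mono f' j f hf'⟩

/-- A normal subgroup stays normal in a smaller group. -/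
theorem isNormalHom_of_comp {A B C : Over (Spec (CommRingCat.of k))} [GrpObj A] [GrpObj B] [GrpObj C] (a : A ⟶ B) (b : B ⟶ C)
    [IsMonHom b] [Mono b] (h : AlgGrp.IsNormalHom (a ≫ b)) : AlgGrp.IsNormalHom a := by
  intro X g n
  obtain ⟨n', hn'⟩ := h X (g ≫ b) n
  refine ⟨n', (cancel_mono b).1 ?_⟩
  rw [MonObj.mul_comp, MonObj.mul_comp, GrpObj.inv_comp, Category.assoc, Category.assoc, hn']

variable [IsAffine G.left] [Smooth G.hom] [ConnectedSpace G₀.left]

/-- **The unipotent radical of the identity component is normal in the whole group.** -/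
theorem exists_radical_of_open :
    ∃ (W : Over (Spec (CommRingCat.of k))) (_ : GrpObj W) (w : W ⟶ G₀),
      Par.IsUnipotentRadical w ∧ ConnectedSpace W.left ∧ Red.HasNoSubtorus k W ∧ AlgGrp.IsNormalHom (w ≫ j) ∧
      IsClosedImmersion (w ≫ j).left ∧
      ∀ (N : Over (Spec (CommRingCat.of k))) [GrpObj N] (iN : N ⟶ G₀) [IsMonHom iN], IsClosedImmersion iN.left →
        Smooth N.hom → ConnectedSpace N.left → AlgGrp.IsNormalHom iN →
        ∀ (U : Over (Spec (CommRingCat.of k))) [GrpObj U] (iU : U ⟶ N) [IsMonHom iU], IsClosedImmersion iU.left →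
          Smooth U.hom → ConnectedSpace U.left → AlgGrp.IsNormalHom iU → Red.HasNoSubtorus k U →
          ∃ f : U ⟶ W, f ≫ w = iU ≫ iN := by
  haveI := RedOpen.isClosedImmersion_openSub j
  haveI : IsAffine G₀.left := isAffine_of_isAffineHom j.left
  haveI : Smooth G₀.hom := by rw [← Over.w j]; infer_instance
  haveI : Mono j := Over.mono_of_mono_left j
  obtain ⟨W, _, w, hw, hWa, hWc, hWt, huniv⟩ := exists_unipotentRadical G₀
  obtain ⟨hwm, hwc, hwn, hws, -, -, -⟩ := id hw
  haveI := hwm; haveI := hwc; haveI := hws; haveI := hWa; haveI := hWc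
  haveI : IsClosedImmersion (w ≫ j).left := inferInstanceAs (IsClosedImmersion (w.left ≫ j.left))
  haveI : Mono w := GrpField.SchImg.mono_of_isClosedImmersion w
  -- conjugates
  have hconj : ∀ g : RP G, ∃ f : W ⟶ W, f ≫ w ≫ j = AGF.conjBy g (w ≫ j) := by
    intro g
    haveI := isMonHom_conjBy g (w ≫ j)
    haveI := isClosedImmersion_conjBy g (w ≫ j)
    haveI := isMonHom_conjBy g⁻¹ j
    obtain ⟨u', hu', hu'm⟩ := exists_factor_conn_hom j (AGF.conjBy g (w ≫ j))
    obtain ⟨n, hn, -⟩ := exists_factor_conn_hom j (AGF.conjBy g⁻¹ j)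
    haveI := hu'm
    haveI : IsClosedImmersion u'.left := by
      haveI : IsClosedImmersion (u'.left ≫ j.left) := by rw [← Over.comp_left, hu']; infer_instance
      exact IsClosedImmersion.of_comp u'.left j.left
    have hnorm : AlgGrp.IsNormalHom u' := by
      intro X h m
      obtain ⟨m', hm'⟩ := hwn X (h ≫ n) m
      refine ⟨m', (cancel_mono j).1 ?_⟩
      have h1 : (h ≫ n) ≫ j = (toUnit X ≫ g)⁻¹ * (h ≫ j) * (toUnit X ≫ g) := by
        rw [Category.assoc, hn, comp_conjBy, GrpObj.comp_inv, _root_.inv_inv]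
      have h2 := congrArg (fun e => e ≫ j) hm'
      simp only [MonObj.mul_comp, GrpObj.inv_comp, h1] at h2
      simp only [MonObj.mul_comp, GrpObj.inv_comp]
      rw [Category.assoc, Category.assoc, hu', comp_conjBy, comp_conjBy, ← Category.assoc m', ← h2, ← Category.assoc m]
      group
    obtain ⟨f, hf⟩ := exists_le_radical hw u' hnorm hWt
    exact ⟨f, by rw [← Category.assoc, hf, hu']⟩
  refine ⟨W, inferInstance, w, hw, hWc, hWt, ?_, inferInstance, huniv⟩
  haveI : Smooth (G ⊗ W).hom := by
    show Smooth (pullback.fst G.hom W.hom ≫ G.hom)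
    infer_instance
  haveI : IsReduced (G ⊗ W).left := SmoothRed.isReduced_of_smooth_scheme (G ⊗ W).hom
  let F : G ⊗ W ⟶ G := fst G W * (snd G W ≫ w ≫ j) * (fst G W)⁻¹
  obtain ⟨m, hm⟩ := exists_lift_rp F (w ≫ j) fun z => by
    obtain ⟨f, hf⟩ := hconj (z ≫ fst G W)
    refine ⟨rpt ((z ≫ snd G W) ≫ f), ?_⟩
    rw [map_rpt, Category.assoc, hf, comp_conjBy, toUnit_one, Category.id_comp]
    simp only [F, MonObj.comp_mul, GrpObj.comp_inv, ← Category.assoc]
  intro X g z
  refine ⟨lift g z ≫ m, ?_⟩
  rw [Category.assoc, hm, MonObj.comp_mul, MonObj.comp_mul, GrpObj.comp_inv, CartesianMonoidalCategory.lift_snd_assoc,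
    CartesianMonoidalCategory.lift_fst]

end Groth.Agent.UniRad
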