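import Groth.Agent.RedOpen.Clause
import Groth.Agent.S3268

/-!
# Common eigenvectors and regular representations on forms and operators
-/

set_option autoImplicit false
set_option backward.isDefEq.respectTransparency false
set_option linter.style.haveILetI false
set_option linter.unusedSectionVars false
set_option maxHeartbeats 1000000
set_option synthInstance.maxHeartbeats 200000

universe u

open CategoryTheory CategoryTheory.Limits MonoidalCategory CartesianMonoidalCategory MonObj GrpObj AlgebraicGeometry
open TensorProduct WithConv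
open scoped Groth.Agent.Takeuchi
open Groth.Agent.MTBridge (specGrp)

noncomputable section

namespace Groth.Agent.UniRad

open Chev Chev.BorelFixed Chev.Borel RedCartan

variable {k : Type u} [Field k] [IsAlgClosed k] {G : Over (Spec (CommRingCat.of k))} [GrpObj G] {A : Type u}
  [CommRing A] [HopfAlgebra k A] {V : Type u} [AddCommGroup V] [Module k V]

/-- A connected solvable group has an eigenvector in every regular representation. -/
theorem exists_eigen [IsAffine G.left] [Smooth G.hom] [ConnectedSpace G.left] [Group.IsSolvable (RP G)]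
    (e : (specGrp k A).X ≅ G) [IsMonHom e.hom] [FiniteDimensional k V] [Nontrivial V]
    {ρ : RP G →* Module.End k V} (hρ : IsRegular e ρ) : ∃ v : V, v ≠ 0 ∧ ∀ g : RP G, ∃ c : k, ρ g v = c • v := by
  classical
  haveI : IsIso e.hom.left := inferInstanceAs (IsIso ((Over.forget _).map e.hom))
  haveI : Algebra.FiniteType k A := by
    have h0 : LocallyOfFiniteType (e.hom.left ≫ G.hom) := inferInstance
    rw [Over.w e.hom] at h0
    exact RingHom.finiteType_algebraMap.1 ((HasRingHomProperty.Spec_iff (P := @LocallyOfFiniteType)).1 h0)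
  haveI : IsDomain A := isDomain_of_smooth_connected e
  haveI : Group.IsSolvable (Takeuchi.Pt k A k) :=
    Group.isSolvable_of_surjective (f := (ProjRep.ptsEquiv e).toMonoidHom) (ProjRep.ptsEquiv e).surjective
  have htrig := Groth.Agent.S3266.result k A fun x hx => IsIdempotentElem.iff_eq_zero_or_one.1 hx
  let b := Module.finBasis k V
  let E := LinearMap.toMatrixAlgEquiv b
  choose x hx using fun i j => hρ (b.coord i) (b j)
  let N : Matrix _ _ A := fun i j => x i j
  have hN : ∀ p : RP G, N.map (ProjRep.ptsEquiv e p).ofConv = E (ρ p) := fun p => by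
    ext i j
    rw [LinearMap.toMatrixAlgEquiv_apply]
    exact hx i j p
  have hN' : ∀ φ : RedOpen.Pts k A k, N.map φ.ofConv = E (ρ ((ProjRep.ptsEquiv e).symm φ)) := fun φ => by
    rw [← hN, MulEquiv.apply_symm_apply]
  have hcorep : Comod.IsCorep (k := k) N := RedOpen.isCorep_of_points
    (fun a c => by rw [hN', hN', hN', map_mul, map_mul, map_mul])
    (by rw [hN', map_one, map_one, map_one])
  letI cV := Comod.ofCorep b hcorep
  obtain ⟨F, -, hsub, hrk⟩ := S3268.result k A htrig V
  have h1 : Module.finrank k (F 1) = 1 := hrk 1 (Module.finrank_pos (R := k) (M := V))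
  obtain ⟨⟨v, hvF⟩, hv0, hspan⟩ := finrank_eq_one_iff'.1 h1
  refine ⟨v, fun h => hv0 (Subtype.ext h), fun g => ?_⟩
  have hact : HopfRep.Comod.act k A V (ProjRep.ptsEquiv e g).ofConv = ρ g := b.ext fun j => by
    have h1 : HopfRep.Comod.act k A V (ProjRep.ptsEquiv e g).ofConv (b j) =
        ∑ i, (ProjRep.ptsEquiv e g).ofConv (N i j) • b i := by
      show (TensorProduct.rid k V) (LinearMap.lTensor V _ (b.constr k (fun j => ∑ i, b i ⊗ₜ[k] N i j) (b j))) = _
      rw [Module.Basis.constr_basis]
      simp
    rw [h1, ← b.sum_repr (ρ g (b j))]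
    refine Finset.sum_congr rfl fun i _ => ?_
    congr 1
    exact hx i j g
  have hmem : ρ g v ∈ F 1 := by
    obtain ⟨w, hw⟩ := hsub 1 v hvF
    rw [← hact]
    show (TensorProduct.rid k V) (LinearMap.lTensor V (ProjRep.ptsEquiv e g).ofConv.toLinearMap _) ∈ F 1
    rw [← hw]
    clear hw
    induction w using TensorProduct.induction_on with
    | zero => simp
    | add a c ha hc => simp only [map_add]; exact add_mem ha hc
    | tmul a c => simpa using (F 1).smul_mem _ a.2
  obtain ⟨c, hc⟩ := hspan ⟨_, hmem⟩
  exact ⟨c, (congrArg Subtype.val hc).symm⟩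

/-- The contragredient representation. -/
def dualRep (ρ : RP G →* Module.End k V) : RP G →* Module.End k (Module.Dual k V) where
  toFun g := LinearMap.lcomp k k (ρ g⁻¹)
  map_one' := LinearMap.ext fun f => LinearMap.ext fun x => by simp
  map_mul' g h := LinearMap.ext fun f => LinearMap.ext fun x => by simp [_root_.mul_inv_rev]

@[simp] theorem dualRep_apply (ρ : RP G →* Module.End k V) (g : RP G) (f : Module.Dual k V) (x : V) :
    dualRep ρ g f x = f (ρ g⁻¹ x) := rfl

/-- The conjugation representation on operators. -/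
def endRep (ρ : RP G →* Module.End k V) : RP G →* Module.End k (Module.End k V) where
  toFun g := (LinearMap.mulLeft k (ρ g)).comp (LinearMap.mulRight k (ρ g⁻¹))
  map_one' := LinearMap.ext fun f => by simp
  map_mul' g h := LinearMap.ext fun f => LinearMap.ext fun x => by simp [_root_.mul_inv_rev]

@[simp] theorem endRep_apply (ρ : RP G →* Module.End k V) (g : RP G) (f : Module.End k V) (x : V) :
    endRep ρ g f x = ρ g (f (ρ g⁻¹ x)) := rfl

theorem ptsEquiv_inv (e : (specGrp k A).X ≅ G) [IsMonHom e.hom] (g : RP G) (a : A) :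
    (ProjRep.ptsEquiv e g⁻¹) a = (ProjRep.ptsEquiv e g) (HopfAlgebraStruct.antipode (R := k) a) := by
  rw [map_inv]
  exact Takeuchi.inv_apply _ a

theorem isRegular_dualRep [FiniteDimensional k V] (e : (specGrp k A).X ≅ G) [IsMonHom e.hom]
    {ρ : RP G →* Module.End k V} (hρ : IsRegular e ρ) : IsRegular e (dualRep ρ) := by
  intro l f
  obtain ⟨w, rfl⟩ := (Module.evalEquiv k V).surjective l
  obtain ⟨a, ha⟩ := hρ f w
  refine ⟨HopfAlgebraStruct.antipode (R := k) a, fun g => ?_⟩
  rw [← ptsEquiv_inv, ha]
  rfl

theorem isRegular_endRep [FiniteDimensional k V] (e : (specGrp k A).X ≅ G) [IsMonHom e.hom]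
    {ρ : RP G →* Module.End k V} (hρ : IsRegular e ρ) : IsRegular e (endRep ρ) := by
  classical
  intro l f
  let b := Module.finBasis k V
  choose x hx using fun i j => hρ (b.coord i) (b j)
  let E := LinearMap.toMatrixAlgEquiv b
  let c := fun i j => l (E.symm (Matrix.single i j 1))
  refine ⟨∑ i, ∑ j, c i j • ∑ p, ∑ q, E f p q • (x i p * HopfAlgebraStruct.antipode (R := k) (x q j)), fun g => ?_⟩
  have hE : ∀ (h : RP G) i j, E (ρ h) i j = (ProjRep.ptsEquiv e h) (x i j) := fun h i j => by
    rw [LinearMap.toMatrixAlgEquiv_apply]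
    exact (hx i j h).symm
  have h1 : l (endRep ρ g f) = ∑ i, ∑ j, E (endRep ρ g f) i j * c i j := by
    have h := congrArg (fun M => l (E.symm M)) (Matrix.matrix_eq_sum_single (E (endRep ρ g f)))
    simp only [AlgEquiv.symm_apply_apply, map_sum] at h
    rw [h]
    refine Finset.sum_congr rfl fun i _ => Finset.sum_congr rfl fun j _ => ?_
    rw [show Matrix.single i j (E (endRep ρ g f) i j) = E (endRep ρ g f) i j • Matrix.single i j (1 : k) by
      rw [Matrix.smul_single, smul_eq_mul, _root_.mul_one], map_smul, map_smul, smul_eq_mul]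
  rw [h1]
  simp only [map_sum, map_smul, smul_eq_mul, map_mul]
  refine Finset.sum_congr rfl fun i _ => Finset.sum_congr rfl fun j _ => ?_
  rw [mul_comm (E (endRep ρ g f) i j)]
  congr 1
  rw [show endRep ρ g f = ρ g * f * ρ g⁻¹ from LinearMap.ext fun _ => rfl, map_mul, map_mul]
  simp only [Matrix.mul_apply, Finset.sum_mul]
  rw [Finset.sum_comm]
  refine Finset.sum_congr rfl fun q _ => Finset.sum_congr rfl fun p _ => ?_
  rw [hE, hE]
  rw [← ptsEquiv_inv]
  ring

end Groth.Agent.UniRad
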