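import Groth.Agent.UniRad.Eigen
import Groth.Agent.RedCartan.Fix

/-!
# Forms eigen for Borel subgroups through the torus have no common zero on the flag variety
-/

set_option autoImplicit false
set_option backward.isDefEq.respectTransparency false
set_option linter.style.haveILetI false
set_option linter.unusedSectionVars false
set_option maxHeartbeats 1000000
set_option synthInstance.maxHeartbeats 200000

universe u

open CategoryTheory CategoryTheory.Limits MonoidalCategory CartesianMonoidalCategory MonObj GrpObj AlgebraicGeometry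
open Groth.Agent.SubGen (rpt map_rpt)
open Groth.Agent.MTBridge (specGrp)

noncomputable section

namespace Groth.Agent.UniRad

open Chev Chev.BorelFixed Chev.Borel RedCartan

variable {k : Type u} [Field k] [IsAlgClosed k] {V : Type u} [AddCommGroup V] [Module k V] [Module.Finite k V]
  {G B T : Over (Spec (CommRingCat.of k))} [GrpObj G] [GrpObj B] [GrpObj T] [IsAffine G.left] [Smooth G.hom]
  [ConnectedSpace G.left] {A : Type u} [CommRing A] [HopfAlgebra k A]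

/-- Forms which are eigen for a Borel subgroup through the torus. -/
def GoodForm (iT : T ⟶ G) (iB : B ⟶ G) (ρ : RP G →* Module.End k V) (v : V) (φ : V →ₗ[k] k) : Prop :=
  ∃ g : RP G, (∀ t : RP T, ∃ c : k, ρ (t ≫ iT) (ρ g v) = c • ρ g v) ∧
    ∀ b : RP B, ∃ a : k, ∀ z, φ (ρ (g * (b ≫ iB) * g⁻¹) z) = a * φ z

/-- A common cocharacter for two representations. -/
theorem exists_cochar₂ (hT : Red.IsTorus T) (iT : T ⟶ G) [IsMonHom iT] (e : (specGrp k A).X ≅ G) [IsMonHom e.hom]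
    {ρ : RP G →* Module.End k V} (hρ : IsRegular e ρ) {W : Type u} [AddCommGroup W] [Module k W] [Module.Finite k W]
    {σ : RP G →* Module.End k W} (hσ : IsRegular e σ) :
    ∃ (J : Finset ℤ) (Q : ℤ → Module.End k V) (R : ℤ → Module.End k W) (L : kˣ → RP T),
      (∀ (s : kˣ) (v : V), ρ (L s ≫ iT) v = ∑ j ∈ J, (s : k) ^ j • Q j v) ∧
      (∀ (s : kˣ) (w : W), σ (L s ≫ iT) w = ∑ j ∈ J, (s : k) ^ j • R j w) ∧
      (∀ (s : kˣ), ∀ j ∈ J, ∀ v : V, ρ (L s ≫ iT) (Q j v) = (s : k) ^ j • Q j v) ∧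
      (∀ (t : RP T), ∀ j ∈ J, ∃ c : k, ∀ v : V, ρ (t ≫ iT) (Q j v) = c • Q j v) ∧
      (∀ (t : RP T), ∀ j ∈ J, ∃ c : k, ∀ w : W, σ (t ≫ iT) (R j w) = c • R j w) := by
  let π : RP G →* Module.End k (V × W) :=
    { toFun := fun g => (ρ g).prodMap (σ g)
      map_one' := by rw [map_one, map_one]; exact LinearMap.prodMap_one
      map_mul' := fun g h => by rw [map_mul, map_mul]; exact LinearMap.prodMap_mul _ _ _ _ }
  have hπ : IsRegular e π := fun l w => by
    obtain ⟨a, ha⟩ := hρ (l.comp (LinearMap.inl k V W)) w.1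
    obtain ⟨b, hb⟩ := hσ (l.comp (LinearMap.inr k V W)) w.2
    refine ⟨a + b, fun g => ?_⟩
    show (ProjRep.ptsEquiv e g).ofConv (a + b) = _
    rw [map_add]
    refine (congrArg₂ (· + ·) (ha g) (hb g)).trans ?_
    rw [LinearMap.comp_apply, LinearMap.comp_apply, ← map_add]
    simp [π]
  obtain ⟨J, P, L, hop, hPL, hPe⟩ := exists_cochar hT iT e hπ
  refine ⟨J, fun j => (LinearMap.fst k V W) ∘ₗ P j ∘ₗ LinearMap.inl k V W,
    fun j => (LinearMap.snd k V W) ∘ₗ P j ∘ₗ LinearMap.inr k V W, L, fun s x => ?_, fun s x => ?_,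
    fun s j hj x => ?_, fun t j hj => ?_, fun t j hj => ?_⟩
  · have h := congrArg Prod.fst (hop s (x, 0))
    simpa [π, Prod.fst_sum] using h
  · have h := congrArg Prod.snd (hop s (0, x))
    simpa [π, Prod.snd_sum] using h
  · have h := congrArg Prod.fst (hPL s j hj (x, 0))
    simpa [π] using h
  · obtain ⟨c, hc⟩ := hPe t j hj
    refine ⟨c, fun x => ?_⟩
    have h := congrArg Prod.fst (hc (x, 0))
    simpa [π] using h
  · obtain ⟨c, hc⟩ := hPe t j hj
    refine ⟨c, fun x => ?_⟩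
    have h := congrArg Prod.snd (hc (0, x))
    simpa [π] using h

omit [IsAffine G.left] [Smooth G.hom] [ConnectedSpace G.left] in
/-- A T-eigenline in the cone gives a Borel subgroup through the torus. -/
theorem exists_thru (iT : T ⟶ G) [IsReduced T.left] [LocallyOfFiniteType T.hom] (iB : B ⟶ G)
    [IsClosedImmersion iB.left] {ρ : RP G →* Module.End k V} {v : V}
    (hline : ∀ g : RP G, (∃ b : RP B, b ≫ iB = g) ↔ ∃ c : k, ρ g v = c • v)
    {g : RP G} (hg : ∀ t : RP T, ∃ c : k, ρ (t ≫ iT) (ρ g v) = c • ρ g v) :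
    ∃ t' : T ⟶ B, t' ≫ AGF.conjBy g iB = iT := by
  haveI := isClosedImmersion_conjBy g iB
  refine exists_lift_rp iT (AGF.conjBy g iB) fun p => ?_
  obtain ⟨c, hc⟩ := hg p
  obtain ⟨b, hb⟩ := (hline (g⁻¹ * (p ≫ iT) * g)).2 ⟨c, by
    simp only [map_mul, Module.End.mul_apply, hc, map_smul, rho_cancel]⟩
  refine ⟨rpt b, ?_⟩
  rw [map_rpt, comp_conjBy, toUnit_one, Category.id_comp, hb]
  congr 1
  group

/-- Two T-eigenlines in the cone differ by the normaliser of the torus. -/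
theorem exists_normalizer (iT : T ⟶ G) (hT : AGF.IsMaxTorus iT) [IsReduced T.left] [LocallyOfFiniteType T.hom]
    (iB : B ⟶ G) (hB : Red.IsBorelOver k iB) {ρ : RP G →* Module.End k V} {v : V} (hv : v ≠ 0)
    (hline : ∀ g : RP G, (∃ b : RP B, b ≫ iB = g) ↔ ∃ c : k, ρ g v = c • v) {g₀ g : RP G}
    (h₀ : ∀ t : RP T, ∃ c : k, ρ (t ≫ iT) (ρ g₀ v) = c • ρ g₀ v)
    (h : ∀ t : RP T, ∃ c : k, ρ (t ≫ iT) (ρ g v) = c • ρ g v) :
    ∃ n : RP G, (∀ p : RP T, (∃ p' : RP T, n * (p ≫ iT) * n⁻¹ = p' ≫ iT) ∧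
        (∃ p' : RP T, n⁻¹ * (p ≫ iT) * n = p' ≫ iT)) ∧ ∃ c : k, c ≠ 0 ∧ ρ n (ρ g₀ v) = c • ρ g v := by
  haveI := hB.1; haveI := hB.2.1
  haveI := hT.1; haveI := hT.2.1
  obtain ⟨t₀, ht₀⟩ := exists_thru iT iB hline h₀
  obtain ⟨t₁, ht₁⟩ := exists_thru iT iB hline h
  obtain ⟨n, f, f', hf, hf'⟩ := borelPair_conj (AGF.conjBy g₀ iB) (AGF.conjBy g iB) (isBorelOver_conjBy g₀ iB hB)
    (isBorelOver_conjBy g iB hB) iT iT hT hT t₀ ht₀ t₁ ht₁
  have key : ∀ q : RP T, (q ≫ f'.hom) ≫ iT = n * (q ≫ iT) * n⁻¹ := fun q => by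
    rw [Category.assoc, hf', comp_conjBy, toUnit_one, Category.id_comp]
  refine ⟨n, fun p => ⟨⟨_, (key p).symm⟩, ⟨p ≫ f'.inv, ?_⟩⟩, ?_⟩
  · have h1 := key (p ≫ f'.inv)
    rw [Category.assoc p f'.inv f'.hom, Iso.inv_hom_id, Category.comp_id] at h1
    rw [h1]
    group
  rw [conjBy_conjBy] at hf
  obtain ⟨b, hb⟩ := mem_borel_of_normalizes iB hB (g⁻¹ * (n * g₀)) fun b => ⟨b ≫ f.hom, by
    have h1 := congrArg (fun m => b ≫ m) hf
    simp only [comp_conjBy, toUnit_one, Category.id_comp] at h1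
    calc (b ≫ f.hom) ≫ iB = g⁻¹ * (g * ((b ≫ f.hom) ≫ iB) * g⁻¹) * g := by group
      _ = _ := by rw [Category.assoc b f.hom iB, h1]; group⟩
  obtain ⟨c, hc⟩ := (hline _).1 ⟨b, hb⟩
  refine ⟨c, fun h0 => rho_ne_zero ρ _ hv (hc.trans (by rw [h0, zero_smul])), ?_⟩
  rw [← Module.End.mul_apply, ← map_mul, ← map_smul, ← hc, ← Module.End.mul_apply, ← map_mul, mul_inv_cancel_left]

omit [IsAffine G.left] [Smooth G.hom] [ConnectedSpace G.left] in
theorem GoodForm.smul_torus {iT : T ⟶ G} [IsReduced T.left] [LocallyOfFiniteType T.hom] {iB : B ⟶ G}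
    [IsClosedImmersion iB.left] {ρ : RP G →* Module.End k V} {v : V}
    (hline : ∀ g : RP G, (∃ b : RP B, b ≫ iB = g) ↔ ∃ c : k, ρ g v = c • v) {φ : V →ₗ[k] k}
    (hφ : GoodForm iT iB ρ v φ) (t : RP T) : ∃ a : k, ∀ z, φ (ρ (t ≫ iT) z) = a * φ z := by
  obtain ⟨g, hg, he⟩ := hφ
  obtain ⟨t', ht'⟩ := exists_thru iT iB hline hg
  obtain ⟨a, ha⟩ := he (t ≫ t')
  refine ⟨a, fun z => ?_⟩
  rw [← ha z, ← ht', ← Category.assoc, comp_conjBy, toUnit_one, Category.id_comp]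

/-- **Good forms detect the T-eigenlines of the cone.** -/
theorem exists_goodForm (iT : T ⟶ G) (hT : AGF.IsMaxTorus iT) (iB : B ⟶ G) (hB : Red.IsBorelOver k iB)
    {X : Over (Spec (CommRingCat.of k))} (aX : AlgGrp.Action G X) (o : RP X) (hX : AGF.IsQuotient iB X aX o)
    (e : (specGrp k A).X ≅ G) [IsMonHom e.hom] {ρ : RP G →* Module.End k V} (hρ : IsRegular e ρ) {v : V} (hv : v ≠ 0)
    (hline : ∀ g : RP G, (∃ b : RP B, b ≫ iB = g) ↔ ∃ c : k, ρ g v = c • v) (hK : IsZar (k := k) (cone ρ v))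
    (hspan : Submodule.span k (cone ρ v) = ⊤) {A' : Type u} [CommRing A'] [HopfAlgebra k A']
    (eB : (specGrp k A').X ≅ B) [IsMonHom eB.hom]
    {y : V} (hy : y ∈ cone ρ v) (hy0 : y ≠ 0) (hye : ∀ t : RP T, ∃ c : k, ρ (t ≫ iT) y = c • y) :
    ∃ φ : V →ₗ[k] k, GoodForm iT iB ρ v φ ∧ φ y ≠ 0 := by
  classical
  obtain ⟨him, himono, hTt, -⟩ := id hT
  haveI := him; haveI := himono
  obtain ⟨hBm, hBc, hBs, hBconn, hBsol, -⟩ := id hB
  haveI := hBm; haveI := hBc; haveI := hBs; haveI := hBconn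
  haveI := isAffine_of_isTorus hTt
  haveI := smooth_of_isTorus hTt
  haveI := locallyOfFiniteType_of_isTorus hTt
  haveI : IsReduced T.left := SmoothRed.isReduced_of_smooth_scheme T.hom
  haveI : IsAffine B.left := isAffine_of_isAffineHom iB.left
  haveI : Mono iB := GrpField.SchImg.mono_of_isClosedImmersion iB
  haveI : Group.IsSolvable (RP B) := isSolvable_rp hBsol
  haveI : Nontrivial V := nontrivial_of_ne v 0 hv
  -- an eigenform of the Borel subgroup
  obtain ⟨f, hf0, hf⟩ := exists_eigen eB ((isRegular_dualRep e hρ).comp eB iB)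
  have hfb : ∀ b : RP B, ∃ a : k, ∀ z, f (ρ (b ≫ iB) z) = a * f z := fun b => by
    obtain ⟨a, ha⟩ := hf b⁻¹
    refine ⟨a, fun z => ?_⟩
    have h := LinearMap.congr_fun ha z
    simp only [MonoidHom.coe_comp, Function.comp_apply, BorelFixed.rpHom, MonoidHom.coe_mk, OneHom.coe_mk,
      dualRep_apply, GrpObj.inv_comp, _root_.inv_inv, LinearMap.smul_apply, smul_eq_mul] at h
    exact h
  -- the cocharacter
  obtain ⟨J, Q, R, L, hop, hopR, hQL, hQe, hRe⟩ := exists_cochar₂ hTt iT e hρ (isRegular_endRep e hρ)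
  have hone : ∀ x, ∑ j ∈ J, Q j x = x := fun x => by
    have h := hop 1 x
    have h1 : ρ (L 1 ≫ iT) x = ∑ j ∈ J, Q j x := h.trans (Finset.sum_congr rfl fun j _ => by simp)
    have h2 : ρ (L 1 ≫ iT) (∑ j ∈ J, Q j x) = ∑ j ∈ J, Q j x := by
      rw [map_sum]
      exact Finset.sum_congr rfl fun j hj => by rw [hQL 1 j hj x]; simp
    rw [← h1] at h2 ⊢
    have h3 := congrArg (ρ (L 1 ≫ iT)⁻¹) h2
    rwa [rho_cancel, rho_cancel] at h3
  have hop1 : ρ (L 1 ≫ iT) = 1 := LinearMap.ext fun x => by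
    rw [Module.End.one_apply]
    exact ((hop 1 x).trans (Finset.sum_congr rfl fun j _ => by simp)).trans (hone x)
  have hidem : ∀ i ∈ J, ∀ x, Q i (Q i x) = Q i x := by
    intro i hi x
    have h := eq_zero_of_sum_zpow (k := k) J id Function.injective_id.injOn
      (fun j => Q j (Q i x) - if j = i then Q i x else 0) (fun s => ?_) hi
    · simpa [sub_eq_zero] using h
    · simp only [id, smul_sub, Finset.sum_sub_distrib, ← hop, hQL s i hi, smul_ite, smul_zero, Finset.sum_ite_eq', if_pos hi,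
        sub_self]
  have hinvL : ∀ (s : kˣ) (x : V), ρ (L s ≫ iT)⁻¹ x = ∑ i ∈ J, ((s : k) ^ i)⁻¹ • Q i x := fun s x => by
    conv_lhs => rw [← hone x]
    rw [map_sum]
    refine Finset.sum_congr rfl fun i hi => ?_
    have h1 := congrArg (ρ (L s ≫ iT)⁻¹) (hQL s i hi x)
    rw [rho_cancel, map_smul] at h1
    exact (inv_smul_eq_iff₀ (zpow_ne_zero i s.ne_zero)).2 h1 |>.symm
  -- the lowest weight of the cone
  have hlead : ∀ g : RP G, ∃ j₀ ∈ J, Q j₀ (ρ g v) ≠ 0 ∧ (∀ j ∈ J, j < j₀ → Q j (ρ g v) = 0) ∧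
      Q j₀ (ρ g v) ∈ cone ρ v := fun g =>
    exists_leading hK (fun z hz c => smul_mem_cone ρ v hz c) J Q (fun s => ρ (L s ≫ iT)) (fun s x => hop s x)
      (fun s z hz => rho_mem_cone ρ v hz _) hop1 (rho_mem_cone ρ v (self_mem_cone ρ v) g) (rho_ne_zero ρ g hv)
  let J' := J.filter fun j => ∃ g : RP G, Q j (ρ g v) ≠ 0
  have hJ' : J'.Nonempty := by
    obtain ⟨j, hj, hne, -⟩ := hlead 1
    exact ⟨j, Finset.mem_filter.2 ⟨hj, 1, hne⟩⟩
  let j₀ := J'.min' hJ'
  obtain ⟨hj₀, g₁, hg₁⟩ := Finset.mem_filter.1 (J'.min'_mem hJ')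
  have hmin : ∀ x : V, ∀ j ∈ J, j < j₀ → Q j x = 0 := fun x j hj hlt => by
    have hx : x ∈ Submodule.span k (cone ρ v) := hspan ▸ Submodule.mem_top
    have hle : Submodule.span k (cone ρ v) ≤ LinearMap.ker (Q j) := Submodule.span_le.2 fun z ⟨g, a, hz⟩ => by
      show Q j z = 0
      by_contra hne
      refine not_le.2 hlt (Finset.min'_le _ j (Finset.mem_filter.2 ⟨hj, g, fun h => hne ?_⟩))
      rw [hz, map_smul, h, smul_zero]
    exact hle hx
  let v₀ := Q j₀ (ρ g₁ v)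
  have hv₀K : v₀ ∈ cone ρ v := by
    obtain ⟨j, hj, hne, hlow, hmem⟩ := hlead g₁
    have hjj : j = j₀ := le_antisymm (not_lt.1 fun hlt => hg₁ (hlow j₀ hj₀ hlt))
      (Finset.min'_le _ j (Finset.mem_filter.2 ⟨hj, g₁, hne⟩))
    subst hjj
    exact hmem
  obtain ⟨g₂, a₂, hg₂⟩ := hv₀K
  have ha₂ : a₂ ≠ 0 := fun h => hg₁ (show v₀ = 0 by rw [hg₂, h, zero_smul])
  -- a translate of the form not vanishing at the lowest vector
  obtain ⟨g, hgv₀⟩ : ∃ g : RP G, f (ρ g⁻¹ v₀) ≠ 0 := by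
    by_contra hc
    push Not at hc
    refine hf0 (LinearMap.ext fun x => ?_)
    have hx : x ∈ Submodule.span k (cone ρ v) := hspan ▸ Submodule.mem_top
    have hle : Submodule.span k (cone ρ v) ≤ LinearMap.ker f := Submodule.span_le.2 fun z ⟨g₃, a, hz⟩ => by
      show f z = 0
      have h := hc (g₃ * g₂⁻¹)⁻¹
      rw [_root_.inv_inv, hg₂, map_smul, map_mul, Module.End.mul_apply, rho_cancel, map_smul, smul_eq_zero] at h
      rw [hz, map_smul, h.resolve_left ha₂, smul_zero]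
    exact hle hx
  let σ := endRep ρ
  let P : Module.End k V := f.smulRight v
  have hP : P ≠ 0 := fun h => hgv₀ (by
    have h1 := LinearMap.congr_fun h (ρ g⁻¹ v₀)
    simp only [P, LinearMap.smulRight_apply, LinearMap.zero_apply, smul_eq_zero] at h1
    exact h1.resolve_right hv)
  have hPline : ∀ b : RP B, ∃ c : k, σ (b ≫ iB) P = c • P := fun b => by
    obtain ⟨c, hc⟩ := (hline (b ≫ iB)).1 ⟨b, rfl⟩
    obtain ⟨a, ha⟩ := hfb b⁻¹
    refine ⟨a * c, LinearMap.ext fun x => ?_⟩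
    rw [GrpObj.inv_comp] at ha
    simp [σ, P, ha, hc, smul_smul]
    ring_nf
  have hKσ : IsZar (k := k) (cone σ P) := isZar_cone iB hB aX o hX e (isRegular_endRep e hρ) hP hPline
  let w := σ g P
  have hw : ∀ x, w x = f (ρ g⁻¹ x) • ρ g v := fun x => by simp [w, σ, P]
  have hLw : ∀ (s : kˣ) (x : V), σ (L s ≫ iT) w x =
      ∑ p ∈ J ×ˢ J, (s : k) ^ (p.1 - p.2) • (f (ρ g⁻¹ (Q p.2 x)) • Q p.1 (ρ g v)) := fun s x => by
    show ρ (L s ≫ iT) (w (ρ (L s ≫ iT)⁻¹ x)) = _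
    rw [hw, map_smul, hop, hinvL, map_sum, map_sum, Finset.sum_smul, Finset.sum_product_right]
    refine Finset.sum_congr rfl fun i _ => ?_
    rw [Finset.smul_sum]
    refine Finset.sum_congr rfl fun j _ => ?_
    rw [map_smul, map_smul, smul_eq_mul, smul_smul, smul_smul, zpow_sub₀ s.ne_zero]
    congr 1
    ring
  -- compare weights
  let D := (J ×ˢ J).image fun p : ℤ × ℤ => p.1 - p.2
  let W := fun (m : ℤ) (x : V) => ∑ p ∈ (J ×ˢ J).filter (fun p => p.1 - p.2 = m), f (ρ g⁻¹ (Q p.2 x)) • Q p.1 (ρ g v)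
  have hcoef : ∀ x m, (if m ∈ J then R m w x else 0) = W m x := by
    intro x m
    by_cases hm : m ∈ J ∪ D
    · refine sub_eq_zero.1 (eq_zero_of_sum_zpow (k := k) (J ∪ D) id Function.injective_id.injOn
        (fun m => (if m ∈ J then R m w x else 0) - W m x) (fun s => ?_) hm)
      simp only [id, smul_sub, Finset.sum_sub_distrib, smul_ite, smul_zero]
      rw [Finset.sum_ite_mem, Finset.inter_eq_right.2 Finset.subset_union_left]
      have h1 : σ (L s ≫ iT) w x = ∑ m ∈ J, (s : k) ^ m • R m w x := by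
        rw [hopR, LinearMap.sum_apply]; rfl
      rw [← h1, hLw, sub_eq_zero, ← Finset.sum_fiberwise_of_maps_to
        (fun p hp => Finset.mem_union_right J (Finset.mem_image_of_mem (fun p : ℤ × ℤ => p.1 - p.2) hp))]
      refine Finset.sum_congr rfl fun m _ => ?_
      rw [Finset.smul_sum]
      exact Finset.sum_congr rfl fun p hp => by rw [(Finset.mem_filter.1 hp).2]
    · rw [Finset.mem_union, not_or] at hm
      rw [if_neg hm.1]
      refine (Finset.sum_eq_zero fun p hp => ?_).symm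
      obtain ⟨h1, h2⟩ := Finset.mem_filter.1 hp
      exact absurd (h2 ▸ Finset.mem_image_of_mem (fun p : ℤ × ℤ => p.1 - p.2) h1) hm.2
  -- the highest weight of the translate
  let Jh := J.filter fun j => Q j (ρ g v) ≠ 0
  have hJh : Jh.Nonempty := by
    obtain ⟨j, hj, hne, -⟩ := hlead g
    exact ⟨j, Finset.mem_filter.2 ⟨hj, hne⟩⟩
  let jh := Jh.max' hJh
  obtain ⟨hjh, hjh0⟩ := Finset.mem_filter.1 (Jh.max'_mem hJh)
  have hmax : ∀ j ∈ J, jh < j → Q j (ρ g v) = 0 := fun j hj hlt => by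
    by_contra hne
    exact not_le.2 hlt (Finset.le_max' _ j (Finset.mem_filter.2 ⟨hj, hne⟩))
  have hWhigh : ∀ m, jh - j₀ < m → ∀ x, W m x = 0 := fun m hm x => Finset.sum_eq_zero fun p hp => by
    obtain ⟨h1, h2⟩ := Finset.mem_filter.1 hp
    obtain ⟨h1a, h1b⟩ := Finset.mem_product.1 h1
    by_cases hi : p.2 < j₀
    · rw [hmin x p.2 h1b hi, map_zero, map_zero, zero_smul]
    · rw [hmax p.1 h1a (by omega), smul_zero]
  have hWtop : W (jh - j₀) v₀ = f (ρ g⁻¹ v₀) • Q jh (ρ g v) := by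
    show ∑ p ∈ _, _ = _
    rw [Finset.sum_eq_single (jh, j₀)]
    · rw [hidem j₀ hj₀]
    · intro p hp hne
      obtain ⟨h1, h2⟩ := Finset.mem_filter.1 hp
      obtain ⟨h1a, h1b⟩ := Finset.mem_product.1 h1
      by_cases hi : p.2 < j₀
      · rw [hmin v₀ p.2 h1b hi, map_zero, map_zero, zero_smul]
      · have : jh < p.1 := by
          by_contra hle
          exact hne (Prod.ext (by omega) (by omega))
        rw [hmax p.1 h1a this, smul_zero]
    · intro hp
      exact absurd (Finset.mem_filter.2 ⟨Finset.mk_mem_product hjh hj₀, rfl⟩ :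
        (jh, j₀) ∈ (J ×ˢ J).filter fun p => p.1 - p.2 = jh - j₀) hp
  have hWne : W (jh - j₀) v₀ ≠ 0 := by rw [hWtop]; exact smul_ne_zero hgv₀ hjh0
  have hm₀ : jh - j₀ ∈ J := by
    by_contra hm
    exact hWne (by rw [← hcoef, if_neg hm])
  -- the leading operator is a translate
  obtain ⟨m, hmJ, hmne, hmlow, hmK⟩ := exists_leading hKσ (fun z hz c => smul_mem_cone σ P hz c)
    (J.image Neg.neg) (fun j => R (-j)) (fun s => σ (L s⁻¹ ≫ iT)) (fun s x => by
      rw [hopR, Finset.sum_image (fun a _ b _ h => neg_injective h)]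
      refine Finset.sum_congr rfl fun j _ => ?_
      rw [neg_neg, Units.val_inv_eq_inv_val, inv_zpow, zpow_neg])
    (fun s z hz => rho_mem_cone σ P hz _) (by
      show endRep ρ (L (1 : kˣ)⁻¹ ≫ iT) = 1
      refine LinearMap.ext fun z => LinearMap.ext fun x => ?_
      rw [inv_one, endRep_apply, hop1, show ρ (L 1 ≫ iT)⁻¹ x = x by
        conv_lhs => rw [show x = ρ (L 1 ≫ iT) x by rw [hop1]; rfl]
        rw [rho_cancel]]
      rfl)
    (rho_mem_cone σ P (self_mem_cone σ P) g) (rho_ne_zero σ g hP)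
  obtain ⟨m', hm'J, rfl⟩ := Finset.mem_image.1 hmJ
  simp only [neg_neg] at hmne hmK hmlow
  have hm' : m' = jh - j₀ := by
    refine le_antisymm (not_lt.1 fun hlt => hmne (LinearMap.ext fun x => ?_)) (not_lt.1 fun hlt => hWne ?_)
    · have h := hcoef x m'
      rw [if_pos hm'J, hWhigh m' hlt] at h
      exact h
    · have h1 := hmlow _ (Finset.mem_image_of_mem Neg.neg hm₀) (neg_lt_neg hlt)
      rw [neg_neg] at h1
      rw [← hcoef, if_pos hm₀]
      exact LinearMap.congr_fun h1 v₀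
  subst hm'
  obtain ⟨g', a, hg'⟩ := hmK
  have hval : R (jh - j₀) w v₀ ≠ 0 := by
    have h := hcoef v₀ (jh - j₀)
    rw [if_pos hm₀] at h
    rw [h]; exact hWne
  have hσg' : ∀ x, σ g' P x = f (ρ g'⁻¹ x) • ρ g' v := fun x => by simp [σ, P]
  rw [show R (jh - j₀) w = a • σ g' P from hg', LinearMap.smul_apply, hσg'] at hval
  obtain ⟨ha0, hfg', -⟩ : a ≠ 0 ∧ f (ρ g'⁻¹ v₀) ≠ 0 ∧ True :=
    ⟨fun h => hval (by rw [h, zero_smul]), fun h => hval (by rw [h, zero_smul, smul_zero]), trivial⟩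
  have hg'e : ∀ t : RP T, ∃ c : k, ρ (t ≫ iT) (ρ g' v) = c • ρ g' v := fun t => by
    obtain ⟨c, hc⟩ := hRe t (jh - j₀) hm₀
    have h1 := hc w
    rw [show R (jh - j₀) w = a • σ g' P from hg', map_smul, smul_comm] at h1
    have h2 := LinearMap.congr_fun (smul_right_injective (Module.End k V) ha0 h1) (ρ (t ≫ iT) v₀)
    rw [LinearMap.smul_apply, endRep_apply, rho_cancel, hσg', hσg', map_smul, smul_smul] at h2
    refine ⟨(f (ρ g'⁻¹ v₀))⁻¹ * (c * f (ρ g'⁻¹ (ρ (t ≫ iT) v₀))), ?_⟩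
    rw [mul_smul, ← h2, inv_smul_smul₀ hfg']
  -- transport to the given eigenline
  obtain ⟨gy, ay, rfl⟩ := hy
  have hay : ay ≠ 0 := fun h => hy0 (by rw [h, zero_smul])
  have hgy : ∀ t : RP T, ∃ c : k, ρ (t ≫ iT) (ρ gy v) = c • ρ gy v := fun t => by
    obtain ⟨c, hc⟩ := hye t
    rw [map_smul, smul_comm] at hc
    exact ⟨c, smul_right_injective V hay hc⟩
  obtain ⟨n, hn, b, hb0, hb⟩ := exists_normalizer iT hT iB hB hv hline (g₀ := g₂) (fun t => by
    obtain ⟨b, hb⟩ := hQe t j₀ hj₀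
    refine ⟨b, smul_right_injective V ha₂ ?_⟩
    show a₂ • ρ (t ≫ iT) (ρ g₂ v) = a₂ • b • ρ g₂ v
    rw [← map_smul, ← hg₂, show ρ (t ≫ iT) v₀ = b • v₀ from hb _, hg₂, smul_comm]) hgy
  refine ⟨f ∘ₗ ρ (n * g')⁻¹, ⟨n * g', fun t => ?_, fun b' => ?_⟩, ?_⟩
  · obtain ⟨t', ht'⟩ := (hn t).2
    obtain ⟨c, hc⟩ := hg'e t'
    refine ⟨c, ?_⟩
    rw [show t ≫ iT = n * (t' ≫ iT) * n⁻¹ by rw [← ht']; group, map_mul ρ n g', Module.End.mul_apply, map_mul,
      map_mul, Module.End.mul_apply, Module.End.mul_apply, rho_cancel, hc, map_smul]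
  · obtain ⟨a', ha'⟩ := hfb b'
    refine ⟨a', fun z => ?_⟩
    simp only [LinearMap.comp_apply]
    rw [← ha', ← Module.End.mul_apply, ← Module.End.mul_apply, ← map_mul, ← map_mul]
    congr 3
    group
  · show f (ρ (n * g')⁻¹ (ay • ρ gy v)) ≠ 0
    rw [← inv_smul_smul₀ hb0 (ρ gy v), ← hb, map_smul, map_smul, map_smul, map_smul, _root_.mul_inv_rev, map_mul,
      Module.End.mul_apply, rho_cancel, show ρ g₂ v = a₂⁻¹ • v₀ by rw [hg₂, inv_smul_smul₀ ha₂], map_smul, map_smul]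
    simp [hay, hb0, ha₂, hfg']

end Groth.Agent.UniRad
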